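import Cfsg.Agent.H692.Rel.Simple_m3
import Cfsg.Agent.H612.Table
import Cfsg.Agent.H129.RealT_m3
import Cfsg.Agent.H129.RealE7_m3
import Cfsg.Agent.H101.ROOddDim_mg
import Cfsg.Agent.H101.ROSUnip
import Cfsg.Agent.FastGrp
import Cfsg.Agent.Prune
set_option linter.all false
prune_inst 0x7fffe9f9f9b879dfffff7e7fa788cdfc1b969fffa6df294bffe06bffabdf330849c563ad89e010fe0e97c21410a87843f9ffdeffe26bf87ffffdbff41ffbee5ff7ffb50851d880a40ffc6ffe93f0778e7f3ffffffffcffffffffffffffffffbeffbfffffffff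
open scoped Cfsg.Agent.FastGrp

-- part: H692/Rel/IM2
section
/-!
# Known nonabelian simple groups have irreducible characters of even degree (helper692, for S4986)
-/

set_option autoImplicit false

namespace Cfsg.Agent.H692.Rel

open Cfsg

universe u

theorem km (S : Type*) [Group S] [Finite S] : Cfsg.Agent.H612.Base.KM S (Nat.card S - 1) := by
  have h : ∀ g : S, g ^ (Nat.card S - 1) = g⁻¹ := by
    intro g
    have h1 : g ^ (Nat.card S - 1) * g = 1 := by
      rw [← pow_succ, Nat.sub_add_cancel Nat.card_pos, pow_card_eq_one']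
    exact eq_inv_of_mul_eq_one_left h1
  exact ⟨fun g => by rw [h, h, inv_inv], fun g _ => h g⟩

theorem im2_of (hc : ∀ (S : Type u) [Group S] [Finite S] [IsSimpleGroup S], IsKnownSimple' S) :
    IM2Hyp.{u} := by
  intro S _ _ _ hna
  have h1 := Cfsg.Agent.H612.Table.known hna (hc S)
  have hsub : Subsingleton (S ⧸ (⊤ : Subgroup S)) := QuotientGroup.subsingleton_quotient_top
  have hp : IsPGroup 2 (S ⧸ (⊤ : Subgroup S)) := fun g => ⟨0, Subsingleton.elim _ _⟩
  obtain ⟨χ, -, h2, -⟩ := h1 S ⊤ ⟨Subgroup.topEquiv.symm⟩ hp _ (km S)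
  exact ⟨χ, χ.2, h2⟩

end Cfsg.Agent.H692.Rel
end

-- part: H742/Roc
section
/-!
# Rows of S4986 (helper742, for helper692): `E₆(q)`, `²E₆(q)`, `G₂(3)`, `Ω₇(3)`

The proofs are those of `H129.RealT.realOdd_G2`, `realOdd_E6`, `H129.RealTw.realOdd_E6`, `H101.RO.pomega_dim_odd`, with
the prime made explicit.
-/

set_option autoImplicit false
set_option linter.unusedSectionVars false

namespace Cfsg.Agent.H742.Roc

open Cfsg Cfsg.Agent.H692.Rel

section Crit

open Cfsg.Agent.H129.RealT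

variable {G : Type*} [Group G] [Finite G]

theorem roc_of_T {T : Subgroup G} (hc : IsCyclic ↥T) {r m : ℕ} (hr : r.Prime) (hm : ¬ r ∣ m)
    (hrT : r ∣ Nat.card ↥T)
    (hodd : Odd (Nat.card ↥T)) (hcent : ∀ y ∈ T, orderOf y = r → Subgroup.centralizer {y} ≤ T) {Q j : ℕ}
    (hact : ∃ y : G, ∀ b ∈ T, y * b ^ Q * y⁻¹ = b) (hQ : r ∣ Q ^ j + 1) : ROC G m := by
  have hrf : Fact r.Prime := ⟨hr⟩
  obtain ⟨⟨x, hx⟩, hxr⟩ := exists_prime_orderOf_dvd_card' (G := ↥T) r hrT
  rw [Subgroup.orderOf_mk] at hxr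
  obtain ⟨y, hy⟩ := hact
  refine ROC.mk hr hm (x := x) (k := 1) (by rw [pow_one, hxr]) ?_ ?_
  · rw [isConj_iff]
    exact ⟨y ^ j, inv_of_act hQ hy hx (by rw [hxr])⟩
  · have h1 := centralizer_eq hc hcent hx hxr
    rw [h1]
    exact hodd

theorem roc_of_far {x y : G} {p m : ℕ} (hp : p.Prime) (hp2 : p ≠ 2) (hm : ¬ p ∣ m) (hx : orderOf x = p)
    (hy : y * x * y⁻¹ = x⁻¹) (hf : ∀ g : G, orderOf g ≠ 2 * p) : ROC G m := by
  refine ROC.mk hp hm (x := x) (k := 1) (by rw [pow_one, hx]) (isConj_iff.2 ⟨y, hy⟩) ?_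
  rw [← Nat.not_even_iff_odd]
  intro he
  obtain ⟨⟨t, ht⟩, ht2⟩ := exists_prime_orderOf_dvd_card' (G := ↥(Subgroup.centralizer ({x} : Set G))) 2
    (even_iff_two_dvd.1 he)
  rw [Subgroup.orderOf_mk] at ht2
  have hc : Commute t x := Subgroup.mem_centralizer_singleton_iff.1 ht
  apply hf (t * x)
  rw [hc.orderOf_mul_eq_mul_orderOf_of_coprime (by
    rw [ht2, hx]; exact (Nat.coprime_primes Nat.prime_two hp).2 hp2.symm), ht2, hx]

end Crit

section Exc

open Cfsg.Agent.H129 Cfsg.Agent.Nodes.RGDChev Cfsg.Agent.H129.TorusTw Cfsg.Agent.H129.RealT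

universe u

variable {F : Type u} [Field F] [Fintype F]

/-- `G₂(q)`, `q ≠ 2` : the torus of order `q² - q + 1`. -/
theorem g2 (h2 : Fintype.card F ≠ 2) : ROC ↥(Cfsg.Lie.chevG2.group F) 3 := by
  obtain ⟨q, hF⟩ : ∃ q, Fintype.card F = q := ⟨_, rfl⟩
  have hq3 : 3 ≤ q := by
    have : 1 < Fintype.card F := Fintype.one_lt_card
    omega
  have hp : IsType Cfsg.Lie.chevG2 2 CoxeterMatrix.G₂ := by simp
  have hW : Nat.card CoxeterMatrix.G₂.Group = 12 :=
    Cfsg.Agent.S1092.result (⟨2, CoxeterMatrix.G₂⟩, 12) (by simp)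
  have : Finite CoxeterMatrix.G₂.Group := Nat.finite_of_card_ne_zero (by rw [hW]; norm_num)
  obtain ⟨r, hr, hrN, hr2, hr3⟩ := exists_prime6 hq3
  have hle : q ≤ q ^ 2 := by nlinarith only []
  have hN : ((q ^ 2 - q + 1 : ℕ) : ℤ) = 1 - (q : ℤ) + (q : ℤ) ^ 2 := by push_cast [Nat.cast_sub hle]; ring
  have hrq : (r : ℤ) ∣ 1 - (q : ℤ) + (q : ℤ) ^ 2 := by rw [← hN]; exact Int.natCast_dvd_natCast.2 hrN
  have hrW : ¬ r ∣ Nat.card CoxeterMatrix.G₂.Group := by
    rw [hW]
    intro h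
    have h2 : (12 : ℕ) = 2 ^ 2 * 3 := by norm_num
    rw [h2] at h
    rcases (Nat.Prime.dvd_mul hr).1 h with h | h
    · exact hr2 ((Nat.prime_dvd_prime_iff_eq hr Nat.prime_two).1 (hr.dvd_of_dvd_pow h))
    · exact hr3 ((Nat.prime_dvd_prime_iff_eq hr Nat.prime_three).1 h)
  have hG : ∀ s, ¬ (r : ℤ) ∣ Gq DataG2h.B (q : ℤ) (DataG2h.R s) := by
    intro s hs
    rcases DataG2h.dvd_of_G hrq s hs with h1 | h1
    · exact hr.one_lt.ne' (Nat.dvd_one.1 (by exact_mod_cast h1))
    · exact hr3 ((Nat.prime_dvd_prime_iff_eq hr Nat.prime_three).1 (by exact_mod_cast h1))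
  obtain ⟨T, h1, h3, h4, h5, h6⟩ := UntwT.untw_T hp CoxeterMatrix.G₂.toCoxeterSystem (by norm_num) hF
    TorusChar.invC_G2 one_ne_zero DataG2h.hA DataG2h.chainOK DataG2h.cycOK DataG2h.rootOK (N := q ^ 2 - q + 1)
    (by rw [DataG2h.fN_eq, hN]) (UntwData.coprime_of_eq (a := (q : ℤ) - 1) (by rw [hN]; ring)) (d := 1) (Or.inl rfl)
  refine roc_of_T (m := 3) h1 hr (fun h => hr3 ((Nat.prime_dvd_prime_iff_eq hr Nat.prime_three).1 h)) (dvd_of_dvd_mul hr hrN (fun h => hr.one_lt.ne' (Nat.dvd_one.1 h)) h4) (odd_of_dvd h3 ?_)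
    (h5 r hr hrW hG) (h6 r hr hrN hrW hG) (j := 3) ?_
  · rcases Nat.even_or_odd q with ⟨m, hm⟩ | ⟨m, hm⟩
    · refine (Nat.even_sub hle |>.2 ?_).add_one
      rw [hm]; simp only [Nat.even_pow, parity_simps, _root_.Even.add_self, _root_.ne_eq, _root_.OfNat.ofNat_ne_zero, _root_.not_false_eq_true, _root_.and_self]
    · refine (Nat.even_sub hle |>.2 ?_).add_one
      rw [hm]; simp only [Nat.even_pow, parity_simps, _root_.Nat.not_even_bit1, _root_.ne_eq, _root_.OfNat.ofNat_ne_zero, _root_.not_false_eq_true, _root_.and_true]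
  · have h7 : (r : ℤ) ∣ (((q ^ 1) ^ 3 + 1 : ℕ) : ℤ) := by
      push_cast
      have e : ((q : ℤ) ^ 1) ^ 3 + 1 = (1 - (q : ℤ) + (q : ℤ) ^ 2) * (q + 1) := by ring
      rw [e]
      exact hrq.mul_right _
    exact Int.natCast_dvd_natCast.1 h7

/-- `E₆(q)` : the torus of order `(q⁴ - q² + 1)(q² + q + 1)/(3, q - 1)`. -/
theorem e6 : ROC ↥(Cfsg.Lie.chevE6.group F) 3 := by
  obtain ⟨q, hF⟩ : ∃ q, Fintype.card F = q := ⟨_, rfl⟩
  have hq2 : 2 ≤ q := by rw [← hF]; exact Fintype.one_lt_card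
  have hp : IsType Cfsg.Lie.chevE6 6 CoxeterMatrix.E₆ := by simp
  have hW : Nat.card CoxeterMatrix.E₆.Group = 51840 :=
    Cfsg.Agent.S1093.result (⟨6, CoxeterMatrix.E₆⟩, 51840) (by simp)
  have : Finite CoxeterMatrix.E₆.Group := Nat.finite_of_card_ne_zero (by rw [hW]; norm_num)
  have h0 : q ^ 2 ≤ q ^ 4 := Nat.pow_le_pow_right (by omega) (by norm_num)
  have hN : (((q ^ 4 - q ^ 2 + 1) * (q ^ 2 + q + 1) : ℕ) : ℤ) =
      1 + (q : ℤ) - (q : ℤ) ^ 3 + (q : ℤ) ^ 5 + (q : ℤ) ^ 6 := by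
    push_cast [Nat.cast_sub h0]; ring
  obtain ⟨r, hr, hrq, hr2, hr3, hr5, hr7⟩ := S2373.exists_prime hq2
  have hr12 : r ∣ q ^ 4 - q ^ 2 + 1 := by
    have hN : ((q ^ 4 - q ^ 2 + 1 : ℕ) : ℤ) = 1 - (q : ℤ) ^ 2 + (q : ℤ) ^ 4 := by
      push_cast [Nat.cast_sub h0]; ring
    have h1 := hrq
    rw [← hN] at h1
    exact Int.natCast_dvd_natCast.1 h1
  have hrW : ¬ r ∣ Nat.card CoxeterMatrix.E₆.Group := by
    rw [hW, show (51840 : ℕ) = 2 ^ 7 * 3 ^ 4 * 5 ^ 1 * 7 ^ 0 by norm_num]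
    exact not_dvd_of hr hr2 hr3 hr5 hr7
  have hG : ∀ s, ¬ (r : ℤ) ∣ Gq DataE6.B (q : ℤ) (DataE6.R s) := by
    intro s hs
    rcases DataE6.dvd_of_G hrq s hs with h1 | h1
    · exact hr.one_lt.ne' (Nat.dvd_one.1 (by exact_mod_cast h1))
    · exact hr2 ((Nat.prime_dvd_prime_iff_eq hr Nat.prime_two).1 (by exact_mod_cast h1))
  obtain ⟨T, h1, h3, h4, h5, h6⟩ := UntwT.untw_T hp CoxeterMatrix.E₆.toCoxeterSystem (by norm_num) hF
    TorusChar.invC_E6 (by norm_num) DataE6.hA DataE6.chainOK DataE6.cycOK DataE6.rootOK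
    (N := (q ^ 4 - q ^ 2 + 1) * (q ^ 2 + q + 1))
    (by rw [DataE6.fN_eq, hN]) (UntwData.coprime_of_eq (a := 1 - (q : ℤ) ^ 2 + (q : ℤ) ^ 4 + (q : ℤ) ^ 5)
      (by rw [hN]; ring)) (d := 3) (Or.inl rfl)
  refine roc_of_T (m := 3) h1 hr (fun h => hr3 ((Nat.prime_dvd_prime_iff_eq hr Nat.prime_three).1 h)) (dvd_of_dvd_mul hr (hr12.mul_right _)
    (fun h => hr3 ((Nat.prime_dvd_prime_iff_eq hr Nat.prime_three).1 h)) h4) (odd_of_dvd h3 ?_)
    (h5 r hr hrW hG) (h6 r hr (hr12.mul_right _) hrW hG) (j := 2) ?_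
  · refine Nat.odd_mul.2 ⟨?_, ?_⟩
    · refine (Nat.even_sub h0 |>.2 ?_).add_one
      simp only [Nat.even_pow, _root_.ne_eq, _root_.OfNat.ofNat_ne_zero, _root_.not_false_eq_true, _root_.and_true]
    · have e : q ^ 2 + q = q * (q + 1) := by ring
      rw [e]
      exact (Nat.even_mul_succ_self q).add_one
  · have h7 : (r : ℤ) ∣ (((q ^ 3) ^ 2 + 1 : ℕ) : ℤ) := by
      push_cast
      have e : ((q : ℤ) ^ 3) ^ 2 + 1 = (1 - (q : ℤ) ^ 2 + (q : ℤ) ^ 4) * (q ^ 2 + 1) := by ring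
      rw [e]
      exact hrq.mul_right _
    exact Int.natCast_dvd_natCast.1 h7

end Exc

section Tw

open Cfsg.Lie Cfsg.Agent.H129 Cfsg.Agent.Nodes.RGDChev Cfsg.Agent.H129.TorusTw Cfsg.Agent.H129.RealT

universe u

/-- `²E₆(q)` : the torus of order `(q⁴ - q² + 1)(q² - q + 1)/(3, q + 1)`. -/
theorem te6 {K : Type u} [Field K] [Fintype K] {q : ℕ} (hq : IsPrimePow q) (hK : Fintype.card K = q ^ 2) :
    ROC ↥(twistedE6 K q) 3 := by
  have hq2 : 2 ≤ q := hq.two_le
  have h0 : q ^ 2 ≤ q ^ 4 := Nat.pow_le_pow_right (by omega) (by norm_num)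
  have hle : q ≤ q ^ 2 := by nlinarith only []
  have hN : (((q ^ 4 - q ^ 2 + 1) * (q ^ 2 - q + 1) : ℕ) : ℤ) =
      1 - (q : ℤ) + (q : ℤ) ^ 3 - (q : ℤ) ^ 5 + (q : ℤ) ^ 6 := by
    push_cast [Nat.cast_sub h0, Nat.cast_sub hle]; ring
  obtain ⟨r, hr, hrq, hr2, hr3, hr5, hr7⟩ := S2373.exists_prime hq2
  have hr12 : r ∣ q ^ 4 - q ^ 2 + 1 := by
    have hN : ((q ^ 4 - q ^ 2 + 1 : ℕ) : ℤ) = 1 - (q : ℤ) ^ 2 + (q : ℤ) ^ 4 := by
      push_cast [Nat.cast_sub h0]; ring
    have h1 := hrq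
    rw [← hN] at h1
    exact Int.natCast_dvd_natCast.1 h1
  have hrW : ¬ r ∣ Nat.card CoxeterMatrix.E₆.Group := by
    rw [TwT.card_W6, show (51840 : ℕ) = 2 ^ 7 * 3 ^ 4 * 5 ^ 1 * 7 ^ 0 by norm_num]
    exact not_dvd_of hr hr2 hr3 hr5 hr7
  have hG : ∀ s, ¬ (r : ℤ) ∣ Gq DataTE6c.B (q : ℤ) (DataTE6c.R s) := by
    intro s hs
    rcases DataTE6c.dvd_of_G hrq s hs with h1 | h1
    · exact hr.one_lt.ne' (Nat.dvd_one.1 (by exact_mod_cast h1))
    · exact hr2 ((Nat.prime_dvd_prime_iff_eq hr Nat.prime_two).1 (by exact_mod_cast h1))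
  have hg : Nat.gcd 3 (q + 1) = 1 ∨ Nat.gcd 3 (q + 1) = 3 :=
    (Nat.dvd_prime Nat.prime_three).1 (Nat.gcd_dvd_left 3 (q + 1))
  obtain ⟨T, h1, h3, h4, h5, h6⟩ := TwT.flip_T hq hK DataTE6c.hA DataTE6c.chainOK DataTE6c.hd_pi DataTE6c.cycOK
    DataTE6c.rootOK DataTE6c.chain2OK DataTE6c.hd2_eq (N := (q ^ 4 - q ^ 2 + 1) * (q ^ 2 - q + 1))
    (by rw [DataTE6c.fN_eq, hN]) (UntwData.coprime_of_eq (a := -1 + (q : ℤ) ^ 2 - (q : ℤ) ^ 4 + (q : ℤ) ^ 5)
      (by rw [hN]; ring))
  have hrd : ¬ r ∣ Nat.gcd 3 (q + 1) := fun h =>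
    hr3 ((Nat.prime_dvd_prime_iff_eq hr Nat.prime_three).1 (h.trans (Nat.gcd_dvd_left _ _)))
  refine roc_of_T (m := 3) h1 hr (fun h => hr3 ((Nat.prime_dvd_prime_iff_eq hr Nat.prime_three).1 h)) (dvd_of_dvd_mul hr (hr12.mul_right _) hrd h4) (odd_of_dvd h3 ?_)
    (h5 r hr hrW hG) (h6 r hr (hr12.mul_right _) hrW hG) (j := 3 / Nat.gcd 3 (q + 1)) ?_
  · refine Nat.odd_mul.2 ⟨?_, ?_⟩
    · refine (Nat.even_sub h0 |>.2 ?_).add_one
      simp only [Nat.even_pow, _root_.ne_eq, _root_.OfNat.ofNat_ne_zero, _root_.not_false_eq_true, _root_.and_true]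
    · refine (Nat.even_sub hle |>.2 ?_).add_one
      simp only [Nat.even_pow, _root_.ne_eq, _root_.OfNat.ofNat_ne_zero, _root_.not_false_eq_true, _root_.and_true]
  · have h7 : (r : ℤ) ∣ ((q ^ 6 + 1 : ℕ) : ℤ) := by
      push_cast
      have e : (q : ℤ) ^ 6 + 1 = (1 - (q : ℤ) ^ 2 + (q : ℤ) ^ 4) * (q ^ 2 + 1) := by ring
      rw [e]
      exact hrq.mul_right _
    have h8 := Int.natCast_dvd_natCast.1 h7
    have e2 : ((q ^ 2) ^ Nat.gcd 3 (q + 1)) ^ (3 / Nat.gcd 3 (q + 1)) = q ^ 6 := by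
      rcases hg with h | h
      · rw [h]; norm_num; ring
      · rw [h]; norm_num; ring
    rw [e2]
    exact h8

end Tw

/-- `G₂(3)` -/
theorem g23 {F : Type*} [Field F] [Fintype F] (hF : Fintype.card F = 3) : ROC ↥(Cfsg.Lie.chevG2.group F) 3 :=
  g2 (by omega)

section Orth

open Module QuadraticMap Cfsg.Agent.H101.RO
open Cfsg.Agent.H150 Cfsg.Agent.H182.Sign Cfsg.Agent.LieClassical.OrthCount

theorem roc_dim_odd {F : Type} [Field F] [Fintype F] (h2 : (2 : F) ≠ 0) {n : ℕ} (hn : 3 ≤ n) {ε1 : ℤ} {r : ℕ}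
    (hr : r.Prime) (hr2 : r ≠ 2) (hr3 : r ≠ 3) (h : RElt F n ε1 r) (hf : ∀ g : POmega F (quadFormOdd n F), orderOf g ≠ 2 * r) :
    ROC (POmega F (quadFormOdd n F)) 3 := by
  obtain ⟨d, Q1, g, y, hs, hg, hy, hyy, hgy, ho⟩ := h
  have hQ1 : ND Q1 := hs.nondeg
  let Q0 : QuadraticForm F F := QuadraticMap.sq
  have hQ0a : ∀ t : F, Q0 t = t * t := fun _ => rfl
  have hsq : ND Q0 := by
    intro x hx
    have h1 := hx 1
    simp only [QuadraticMap.polar, hQ0a] at h1
    have h3 : 2 * x = 0 := by linear_combination h1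
    exact (mul_eq_zero.1 h3).resolve_left h2
  have hQ : ND (Q1.prod Q0) := prod_nd _ _ hQ1 hsq
  have hdim : finrank F ((Fin d → F) × F) = 2 * n + 1 := by rw [finrank_prod, hs.dim, finrank_self]
  obtain ⟨e⟩ := nonempty_pomega h2 (Q1.prod Q0) hQ (by omega : 1 ≤ n) hdim
  obtain ⟨σ, hσ⟩ := exists_spinor h2 (Q1.prod Q0) hQ (by omega)
  have hnn : ∀ (V : Type) [AddCommGroup V] [Module F V], (-1 : Module.End F V) ^ 2 = 1 := by
    intro V _ _
    rw [neg_one_sq]
  obtain ⟨g', hg'⟩ := exists_og Q1 g (N := r) hr.pos (by rw [← ho]; exact pow_orderOf_eq_one g) hg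
  obtain ⟨y', hy'⟩ := exists_og Q1 y (N := 2) two_pos (by rw [pow_two, hyy]) hy
  obtain ⟨m', hm'⟩ := exists_og Q1 (-1) (N := 2) two_pos (hnn _) (fun v => by
    rw [LinearMap.neg_apply, Module.End.one_apply, QuadraticMap.map_neg])
  obtain ⟨s', hs'⟩ := exists_og Q0 (-1) (N := 2) two_pos (hnn _) (fun v => by
    rw [LinearMap.neg_apply, Module.End.one_apply, QuadraticMap.map_neg])
  have hord : ∀ (V : Type) [AddCommGroup V] [Module F V] (Q' : QuadraticForm F V) (a : OG Q') (T : V →ₗ[F] V)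
      (_ : ∀ v, (a : V ≃ₗ[F] V) v = T v), orderOf a = orderOf T := by
    intro V _ _ Q' a T h
    rw [orderOf_eq_orderOf_iff]
    intro j
    exact og_pow_eq_one_iff a T h j
  have hgo : orderOf g' = r := by rw [hord _ Q1 g' g hg', ho]
  have hgy' : g' * y' * g' = y' := by
    apply Subtype.ext
    apply LinearEquiv.ext
    intro v
    show (g' : (Fin d → F) ≃ₗ[F] (Fin d → F)) ((y' : (Fin d → F) ≃ₗ[F] (Fin d → F))
      ((g' : (Fin d → F) ≃ₗ[F] (Fin d → F)) v)) = (y' : (Fin d → F) ≃ₗ[F] (Fin d → F)) v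
    rw [hg', hy', hg', hy']
    exact LinearMap.congr_fun hgy v
  have hgm : g' * m' = m' * g' := by
    apply Subtype.ext
    apply LinearEquiv.ext
    intro v
    show (g' : (Fin d → F) ≃ₗ[F] (Fin d → F)) ((m' : (Fin d → F) ≃ₗ[F] (Fin d → F)) v) =
      (m' : (Fin d → F) ≃ₗ[F] (Fin d → F)) ((g' : (Fin d → F) ≃ₗ[F] (Fin d → F)) v)
    rw [hm', hm', hg', hg', LinearMap.neg_apply, LinearMap.neg_apply, Module.End.one_apply, Module.End.one_apply, map_neg]
  set X := prodHom Q1 Q0 (g', 1) with hX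
  set Y := prodHom Q1 Q0 (y', 1) with hY
  set Z1 := prodHom Q1 Q0 (1, s') with hZ1
  set Z2 := prodHom Q1 Q0 (m', 1) with hZ2
  have hXY : X * Y * X = Y := by
    rw [hX, hY, ← map_mul, ← map_mul]
    congr 1
    exact Prod.ext hgy' (by simp)
  have hXZ1 : X * Z1 = Z1 * X := by
    rw [hX, hZ1, ← map_mul, ← map_mul]
    simp only [Prod.mk_mul_mk, Prod.mk_mul_mk, mul_one, one_mul, one_mul, mul_one]
  have hXZ2 : X * Z2 = Z2 * X := by
    rw [hX, hZ2, ← map_mul, ← map_mul]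
    congr 1
    exact Prod.ext hgm (by simp)
  have hXo : orderOf X = r := by rw [hX, orderOf_prodHom, hgo, orderOf_one, Nat.lcm_one_right]
  have hXmem : X ∈ commutator (OG (Q1.prod Q0)) := mem_commutator_of_real hXY (hr.odd_of_ne_two hr2)
    (by rw [← hXo]; exact pow_orderOf_eq_one X)
  have hV : ∃ v : Fin d → F, v ≠ 0 := by
    haveI : Nontrivial (Fin d → F) := Module.nontrivial_of_finrank_pos (R := F) (by rw [hs.dim]; omega)
    exact exists_ne 0
  have hmo : orderOf m' = 2 := by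
    apply orderOf_eq_prime
    · rw [og_pow_eq_one_iff m' _ hm']; exact hnn _
    · intro h
      obtain ⟨v, hv⟩ := hV
      have h1 : (m' : (Fin d → F) ≃ₗ[F] (Fin d → F)) v = v := by rw [h]; rfl
      rw [hm', LinearMap.neg_apply, Module.End.one_apply] at h1
      have h3 : (2 : F) • v = 0 := by
        rw [two_smul]
        nth_rewrite 1 [← h1]
        exact neg_add_cancel v
      exact hv ((smul_eq_zero.1 h3).resolve_left h2)
  have hZ2n : Z2 ∉ commutator (OG (Q1.prod Q0)) := by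
    intro h
    have ho2 : orderOf Z2 = 2 := by rw [hZ2, orderOf_prodHom, hmo, orderOf_one, Nat.lcm_one_right]
    have ho3 : orderOf (Z2 * X) = 2 * r := by
      rw [(show Commute Z2 X from hXZ2.symm).orderOf_mul_eq_mul_orderOf_of_coprime (by
        rw [ho2, hXo]; exact (Nat.coprime_primes Nat.prime_two hr).2 hr2.symm), ho2, hXo]
    apply hf (e ⟨Z2 * X, mul_mem h hXmem⟩)
    rw [MulEquiv.orderOf_eq, Subgroup.orderOf_mk, ho3]
  let δ : OG (Q1.prod Q0) →* Fˣ := LinearEquiv.det.comp (OG (Q1.prod Q0)).subtype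
  have hδ : ∀ A : OG (Q1.prod Q0), ((δ A : Fˣ) : F) =
      LinearMap.det ((A : ((Fin d → F) × F) ≃ₗ[F] ((Fin d → F) × F)) : ((Fin d → F) × F) →ₗ[F] ((Fin d → F) × F)) :=
    fun A => LinearEquiv.coe_det _
  obtain ⟨Y', hY', hXY'⟩ := adjust_gen δ σ (X := X) (Y := Y) (Z1 := Z1) (Z2 := Z2) (fun T => by
      have h := hσ T
      rw [← hδ, Units.val_eq_one] at h
      exact h) hXY hXZ1 hXZ2
    (Units.ext (by
      rw [hδ]
      have h1 : ((Z1 : ((Fin d → F) × F) ≃ₗ[F] ((Fin d → F) × F)) : ((Fin d → F) × F) →ₗ[F] ((Fin d → F) × F)) =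
        LinearMap.prodMap LinearMap.id ((-1 : F) • LinearMap.id) := by
        apply LinearMap.ext
        rintro ⟨v, t⟩
        refine Prod.ext rfl ((hs' t).trans ?_)
        show -t = (-1 : F) • t
        rw [neg_smul, one_smul]
      rw [h1, LinearMap.det_prodMap, LinearMap.det_id, one_mul, LinearMap.det_smul, finrank_self, LinearMap.det_id,
        pow_one, mul_one]
      rfl))
    (Units.ext (by
      rw [hδ]
      have h1 : ((Z2 : ((Fin d → F) × F) ≃ₗ[F] ((Fin d → F) × F)) : ((Fin d → F) × F) →ₗ[F] ((Fin d → F) × F)) =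
        LinearMap.prodMap ((-1 : F) • LinearMap.id) LinearMap.id := by
        apply LinearMap.ext
        rintro ⟨v, t⟩
        refine Prod.ext ((hm' v).trans ?_) rfl
        show -v = (-1 : F) • v
        rw [neg_smul, one_smul]
      rw [h1, LinearMap.det_prodMap, LinearMap.det_id, mul_one, LinearMap.det_smul, hs.dim, LinearMap.det_id,
        mul_one, pow_mul, neg_one_sq, one_pow]
      rfl))
    hZ2n
    (by
      have h1 : Y * Y = 1 := by
        rw [hY, ← map_mul]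
        have : ((y', 1) : OG Q1 × OG Q0) * (y', 1) = 1 := by
          refine Prod.ext ?_ (by simp only [_root_.Prod.mk_mul_mk, _root_.mul_one, _root_.Prod.snd_one])
          show y' * y' = 1
          rw [← pow_two, og_pow_eq_one_iff y' y hy', pow_two, hyy]
        rw [this, map_one]
      have h3 : ((δ Y : Fˣ) : F) * ((δ Y : Fˣ) : F) = 1 := by
        rw [← Units.val_mul, ← map_mul, h1, map_one, Units.val_one]
      rcases mul_self_eq_one_iff.1 h3 with h | h
      · left; exact Units.ext (by rw [h]; rfl)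
      · right; exact Units.ext (by rw [h]; rfl))
  have hYX : Y' * X * Y'⁻¹ = X⁻¹ := by
    have h1 : X⁻¹ * (X * Y' * X) = X⁻¹ * Y' := by rw [hXY']
    have h2 : X⁻¹ * (X * Y' * X) = Y' * X := by group
    rw [← h2, h1]; group
  refine roc_of_far hr hr2 (m := 3) (fun h => hr3 ((Nat.prime_dvd_prime_iff_eq hr Nat.prime_three).1 h))
    (x := e ⟨X, hXmem⟩) (y := e ⟨Y', hY'⟩) ?_ ?_ hf
  · rw [MulEquiv.orderOf_eq, Subgroup.orderOf_mk, hXo]
  · simp only [← map_mul, ← map_inv, ← map_mul, ← map_inv]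
    congr 1
    exact Subtype.ext hYX

/-- `Ω₇(3)` -/
theorem o73 {F : Type} [Field F] [Fintype F] (hF : Fintype.card F = 3) :
    ROC (Cfsg.POmega F (Cfsg.quadFormOdd 3 F)) 3 := by
  have hodd : Odd (Fintype.card F) := by rw [hF]; decide
  have h2 : (2 : F) ≠ 0 := by
    intro h
    have : CharP F 2 := CharTwo.of_one_ne_zero_of_two_eq_zero one_ne_zero h
    have h2q : 2 ∣ Fintype.card F := by
      obtain ⟨m, -, hm⟩ := FiniteField.card F 2
      rw [hm]
      exact dvd_pow_self _ (PNat.ne_zero m)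
    exact (Nat.not_even_iff_odd.2 hodd) (even_iff_two_dvd.2 h2q)
  have hqe : Nat.card F = Fintype.card F := Nat.card_eq_fintype_card
  have tr : ∀ {r : ℕ} (hr : r.Prime) (hr2 : r ≠ 2), (∀ g : PSp 3 F, orderOf g ≠ 2 * r) →
      ∀ g : POmega F (quadFormOdd 3 F), orderOf g ≠ 2 * r := by
    intro r hr hr2 hg g hgo
    obtain ⟨g', hg'⟩ := (Cfsg.Agent.S2474.result hodd 3 le_rfl 2 r Nat.prime_two hr hr2.symm).1 ⟨g, hgo⟩
    exact hg g' hg'
  obtain ⟨r, hr, hr2, hrF, hk, hrm⟩ := exists_primitive_prime (F := F) (k := 3) (by omega) (by omega)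
  have hd : r ∣ Nat.card F ^ 3 - 1 := by
    rw [hqe]; exact (hrm 3).2 dvd_rfl
  have hr3 : r ≠ 3 := by
    rintro rfl
    rw [hqe, hF] at hd
    norm_num at hd
  exact roc_dim_odd h2 le_rfl hr hr2 hr3 (relt_tor_plus (by omega) hd)
    (tr hr hr2 (psp_far_minus h2 (by omega) hr hr2 hrF hk (by decide) (by rw [hqe, hF])))

end Orth

end Cfsg.Agent.H742.Roc
end

-- part: H686/Roc/Lin
section
/-!
# Real elements of order a power of a given prime with centralizer of odd order: `PSL_n(q)`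

The file follows helper101's `ROLin`, `ROPsl`, `ROPslRow`, keeping track of the prime.
-/

set_option autoImplicit false
set_option linter.style.haveILetI false

namespace Cfsg.Agent.H686.Roc

open Module Cfsg.Agent.H101.RO

/-- `S` has a real element of order a power of `p`, with centralizer of odd order. -/
def ROP (p : ℕ) (S : Type*) [Group S] : Prop :=
  ∃ (x : S) (k : ℕ), orderOf x = p ^ k ∧ IsConj x x⁻¹ ∧
    Odd (Nat.card ↥(Subgroup.centralizer ({x} : Set S)))

theorem ROP.roc {p m : ℕ} {S : Type*} [Group S] (hp : p.Prime) (hpm : ¬ p ∣ m) (h : ROP p S) :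
    Cfsg.Agent.H692.Rel.ROC S m := by
  obtain ⟨x, k, h1, h2, h3⟩ := h
  exact Cfsg.Agent.H692.Rel.ROC.mk hp hpm h1 h2 h3

theorem ROP.of_elts {S : Type*} [Group S] [Finite S] {x y : S} {p k : ℕ} (_ : p.Prime) (_ : p ≠ 2) (_ : 1 ≤ k)
    (hx : orderOf x = p ^ k) (hy : y * x * y⁻¹ = x⁻¹) (hc : ∀ t : S, orderOf t = 2 → ¬ t * x = x * t) : ROP p S :=
  ⟨x, k, hx, isConj_iff.2 ⟨y, hy⟩, odd_centralizer hc⟩

section Crit

variable {F : Type*} [Field F] {V : Type*} [AddCommGroup V] [Module F V] {n : ℕ} (b : Basis (Fin n) F V)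

/-- **The criterion for a linear group modulo its centre (the scalars).** -/
theorem proj_crit {G : Type*} [Group G] [Finite G] (ρ : G →* Module.End F V) (hinj : Function.Injective ρ)
    (hcen : ∀ g, g ∈ Subgroup.center G ↔ ∃ s : F, ρ g = s • (1 : Module.End F V)) {X Y : G}
    (hxy : ρ X * ρ Y * ρ X = ρ Y) {p k : ℕ} (hp : p.Prime) (hp2 : p ≠ 2) (hk : 1 ≤ k)
    (hord : ∀ j, ρ X ^ j = 1 ↔ p ^ k ∣ j)
    (hc : ∀ (g : G) (s : F), ρ g * ρ X = ρ X * ρ g → ρ g * ρ g = s • 1 → ∃ t : F, ρ g = t • 1) :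
    ROP p (G ⧸ Subgroup.center G) := by
  haveI : Nontrivial V := by
    rw [← not_subsingleton_iff_nontrivial]
    intro h
    have h1 : ∀ j, ρ X ^ j = 1 := fun j => Subsingleton.elim _ _
    have h2 := (hord 1).1 (h1 1)
    have h3 : 1 < p ^ k := Nat.one_lt_pow (by omega) hp.one_lt
    have := Nat.le_of_dvd one_pos h2
    omega
  have hpk : Odd (p ^ k) := (hp.odd_of_ne_two hp2).pow
  have hYinv : ∃ y', ρ Y * y' = 1 := ⟨ρ Y⁻¹, by rw [← map_mul, mul_inv_cancel, map_one]⟩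
  have hXYX : X * Y * X = Y := hinj (by rw [map_mul, map_mul, hxy])
  have hord' : ∀ j : ℕ, (QuotientGroup.mk X : G ⧸ Subgroup.center G) ^ j = 1 ↔ p ^ k ∣ j := by
    intro j
    rw [← QuotientGroup.mk_pow, QuotientGroup.eq_one_iff, hcen, map_pow]
    constructor
    · rintro ⟨s, hs⟩
      have h1 := (hord _).1 (pow_eq_one_of_scalar hYinv hxy hs)
      exact (Nat.Coprime.dvd_of_dvd_mul_left (Nat.Coprime.symm (Nat.coprime_two_left.2 hpk)) h1)
    · intro h
      exact ⟨1, by rw [(hord j).2 h, one_smul]⟩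
  refine ROP.of_elts (x := (QuotientGroup.mk X : G ⧸ Subgroup.center G)) (y := QuotientGroup.mk Y) hp hp2 hk ?_ ?_ ?_
  · apply Nat.dvd_antisymm
    · exact orderOf_dvd_of_pow_eq_one ((hord' _).2 dvd_rfl)
    · exact (hord' _).1 (pow_orderOf_eq_one _)
  · have : Y * X * Y⁻¹ = X⁻¹ := by
      have h1 : X⁻¹ * (X * Y * X) = X⁻¹ * Y := by rw [hXYX]
      have h2 : X⁻¹ * (X * Y * X) = Y * X := by group
      rw [← h2, h1]; group
    rw [← QuotientGroup.mk_mul, ← QuotientGroup.mk_inv, ← QuotientGroup.mk_mul, this, QuotientGroup.mk_inv]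
  · intro t ht htx
    obtain ⟨T, rfl⟩ := QuotientGroup.mk_surjective t
    have h2 : (QuotientGroup.mk T : G ⧸ Subgroup.center G) ^ 2 = 1 := by
      rw [← ht]; exact pow_orderOf_eq_one _
    rw [← QuotientGroup.mk_pow, QuotientGroup.eq_one_iff, hcen, map_pow] at h2
    obtain ⟨s, hs⟩ := h2
    have h3 : (X * T)⁻¹ * (T * X) ∈ Subgroup.center G := by
      rw [← QuotientGroup.eq]
      exact htx.symm
    rw [hcen] at h3
    obtain ⟨r, hr⟩ := h3
    set g := ρ T with hg
    have h4 : g * ρ X = r • (ρ X * g) := by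
      have h5 : ρ (T * X) = ρ (X * T) * (r • 1) := by
        rw [← hr, ← map_mul]; congr 1; group
      rw [map_mul, map_mul, mul_smul_comm, mul_one] at h5
      exact h5
    have hginv : g * ρ T⁻¹ = 1 := by rw [hg, ← map_mul, mul_inv_cancel, map_one]
    have hginv' : ρ T⁻¹ * g = 1 := by rw [hg, ← map_mul, inv_mul_cancel, map_one]
    have hxinv : ∃ x', ρ X * x' = 1 := ⟨ρ X⁻¹, by rw [← map_mul, mul_inv_cancel, map_one]⟩
    obtain ⟨x', hx'⟩ := hxinv
    rw [sq] at hs
    have h5 : g * g * ρ X = (r * r) • (ρ X * (g * g)) := by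
      rw [mul_assoc, h4, mul_smul_comm, ← mul_assoc, h4, smul_mul_assoc, smul_smul, mul_assoc]
    have hs0 : s ≠ 0 := by
      rintro rfl
      rw [zero_smul] at hs
      have : (1 : Module.End F V) = 0 := by
        calc (1 : Module.End F V) = g * ρ T⁻¹ := hginv.symm
          _ = g * 1 * ρ T⁻¹ := by rw [mul_one]
          _ = g * (g * ρ T⁻¹) * ρ T⁻¹ := by rw [hginv]
          _ = (g * g) * ρ T⁻¹ * ρ T⁻¹ := by noncomm_ring
          _ = 0 := by rw [hs, zero_mul, zero_mul]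
      exact one_ne_zero this
    have h6 : (r * r) = 1 := by
      rw [hs, smul_mul_assoc, one_mul, mul_smul_comm, mul_one, smul_smul] at h5
      have h7 : s • (1 : Module.End F V) = (r * r * s) • 1 := by
        calc s • (1 : Module.End F V) = (s • ρ X) * x' := by rw [smul_mul_assoc, hx']
          _ = ((r * r * s) • ρ X) * x' := by rw [← h5]
          _ = (r * r * s) • 1 := by rw [smul_mul_assoc, hx']
      obtain ⟨v, hv⟩ := exists_ne (0 : V)
      have h8 := LinearMap.congr_fun h7 v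
      rw [LinearMap.smul_apply, LinearMap.smul_apply, Module.End.one_apply] at h8
      have h9 := smul_left_injective F hv h8
      have : (r * r - 1) * s = 0 := by linear_combination -h9
      rcases mul_eq_zero.1 this with h | h
      · linear_combination h
      · exact absurd h hs0
    have hcomm : g * ρ X = ρ X * g := by
      rcases mul_self_eq_one_iff.1 h6 with rfl | rfl
      · rw [h4, one_smul]
      · -- `g x g⁻¹ = - x`
        have h7 : ∀ j : ℕ, g * ρ X ^ j = ((-1 : F) ^ j) • (ρ X ^ j * g) := by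
          intro j
          induction j with
          | zero => rw [pow_zero, pow_zero, one_smul, mul_one, one_mul]
          | succ j ih =>
            rw [pow_succ (ρ X), ← mul_assoc, ih, smul_mul_assoc, mul_assoc, h4, mul_smul_comm, smul_smul, ← mul_assoc,
              pow_succ (-1 : F)]
        have h8 := h7 (p ^ k)
        rw [(hord _).2 dvd_rfl, mul_one, one_mul, hpk.neg_one_pow] at h8
        have h9 : (2 : F) • g = 0 := by
          rw [two_smul]
          nth_rewrite 1 [h8]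
          rw [neg_smul, one_smul, neg_add_cancel]
        have h10 : (2 : F) = 0 := by
          by_contra h
          have hg0 : g = 0 := (smul_eq_zero.1 h9).resolve_left h
          rw [hg0, zero_mul] at hginv
          exact zero_ne_one hginv
        have h11 : (-1 : F) = 1 := by linear_combination -h10
        rw [h4, h11, one_smul]
    obtain ⟨t, ht'⟩ := hc T s hcomm hs
    have h7 : T ∈ Subgroup.center G := (hcen T).2 ⟨t, ht'⟩
    rw [(QuotientGroup.eq_one_iff T).2 h7, orderOf_one] at ht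
    exact absurd ht (by norm_num)

include b in
/-- **The criterion for `PSL_n(F)`.** -/
theorem psl_crit [Finite F] [NeZero n] {x y : Module.End F V} (hx : LinearMap.det x = 1) (hy : LinearMap.det y = 1)
    (hxy : x * y * x = y) {p k : ℕ} (hp : p.Prime) (hp2 : p ≠ 2) (hk : 1 ≤ k) (hord : ∀ j, x ^ j = 1 ↔ p ^ k ∣ j)
    (hc : ∀ (g : Module.End F V) (s : F), LinearMap.det g = 1 → g * x = x * g → g * g = s • 1 → ∃ t : F, g = t • 1) :
    ROP p (Matrix.ProjectiveSpecialLinearGroup (Fin n) F) := by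
  have hXe : slHom b (slOf b x hx) = x := endOf_slOf b x hx
  have hYe : slHom b (slOf b y hy) = y := endOf_slOf b y hy
  refine proj_crit (slHom b) (endOf_injective b) (mem_center_iff_endOf b) (X := slOf b x hx) (Y := slOf b y hy)
    (by rw [hXe, hYe, hxy]) hp hp2 hk (by rw [hXe]; exact hord) ?_
  intro g s h1 h2
  rw [hXe] at h1
  exact hc _ s (det_endOf b g) h1 h2

end Crit

section General

variable {F : Type*} [Field F] {V : Type*} [AddCommGroup V] [Module F V]

/-- **Algebra criterion for `PSL_n`.** -/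
theorem psl_alg {n : ℕ} [Finite F] [NeZero n] {A : Type*} [CommRing A] [Algebra F A] (b : Basis (Fin n) F A) {lam : A}
    (hgen : Algebra.adjoin F {lam} = ⊤) {y : Module.End F A} (hy : LinearMap.det y = 1)
    (hxy : ∀ v, lam * y (lam * v) = y v) {p k : ℕ} (hp : p.Prime) (hp2 : p ≠ 2) (hk : 1 ≤ k)
    (hord : ∀ j, lam ^ j = 1 ↔ p ^ k ∣ j)
    (hc : ∀ (a : A) (s : F), s ≠ 0 → LinearMap.det (LinearMap.mulLeft F a) = 1 → a * a = algebraMap F A s →
      ∃ t : F, a = algebraMap F A t) :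
    ROP p (Matrix.ProjectiveSpecialLinearGroup (Fin n) F) := by
  have hpk : Odd (p ^ k) := (hp.odd_of_ne_two hp2).pow
  have hxy' : LinearMap.mulLeft F lam * y * LinearMap.mulLeft F lam = y := by
    ext v
    exact hxy v
  have hord' : ∀ j, LinearMap.mulLeft F lam ^ j = 1 ↔ p ^ k ∣ j := fun j => by rw [mulLeft_pow_eq_one_iff, hord]
  have hx : LinearMap.det (LinearMap.mulLeft F lam) = 1 :=
    det_eq_one_of_inv (by rw [hy]; exact one_ne_zero) hxy' hpk ((hord' _).2 dvd_rfl)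
  refine psl_crit b hx hy hxy' hp hp2 hk hord' ?_
  intro g s hdet hcomm hsq
  have hg := exists_mulLeft_of_comm hgen hcomm
  have h1 : g 1 * g 1 = algebraMap F A s := by
    have h2 := LinearMap.congr_fun hsq 1
    rw [Module.End.mul_apply, LinearMap.smul_apply, Module.End.one_apply] at h2
    rw [Algebra.algebraMap_eq_smul_one, ← h2]
    exact (LinearMap.congr_fun hg (g 1)).symm
  have hs : s ≠ 0 := by
    rintro rfl
    have h2 := congrArg LinearMap.det hsq
    rw [zero_smul, map_mul, hdet, mul_one] at h2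
    have h3 : LinearMap.det (0 : Module.End F A) = 0 := by
      rw [← LinearMap.det_toMatrix b, map_zero, Matrix.det_zero]
    rw [h3] at h2
    exact one_ne_zero h2
  obtain ⟨t, ht⟩ := hc (g 1) s hs (by rw [← hg]; exact hdet) h1
  refine ⟨t, ?_⟩
  rw [hg, ht]
  ext v
  rw [LinearMap.mulLeft_apply, LinearMap.smul_apply, Module.End.one_apply, Algebra.smul_def]

end General

theorem psl_unip (F : Type) [Field F] [Finite F] (h2 : (2 : F) ≠ 0) {n : ℕ} (hn : 2 ≤ n)
    (h : n % 4 ≠ 2 ∨ ∃ i : F, i ^ 2 = -1) (p : ℕ) [CharP F p] :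
    ROP p (Matrix.ProjectiveSpecialLinearGroup (Fin n) F) := by
  haveI : NeZero n := ⟨by omega⟩
  have hp : p.Prime := CharP.char_is_prime F p
  have hp2 : p ≠ 2 := by
    rintro rfl
    exact h2 (CharP.cast_eq_zero F 2)
  obtain ⟨k, hk, hord⟩ := Tr.exists_order_lam F n hp h2 hn
  obtain ⟨c, hc⟩ := exists_scalar_det h
  refine psl_alg (Tr.basis F n) (Tr.adjoin_lam F n h2) (y := c • (Tr.D F n).toLinearMap) ?_ ?_ hp hp2 hk hord ?_
  · rw [LinearMap.det_smul, Tr.finrank_eq, Tr.det_D, hc]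
  · intro v
    rw [LinearMap.smul_apply, LinearMap.smul_apply, AlgHom.toLinearMap_apply, AlgHom.toLinearMap_apply, map_mul,
      mul_smul_comm, ← mul_assoc, Tr.lam_mul_D, one_mul]
  · intro a s hs _ h
    exact Tr.eq_of_sq h2 hs h

/-- `p ∣ q ^ m + 1` and `p` odd: `p` does not divide `q - 1` -/
theorem not_dvd_sub_one {p q m : ℕ} (hp : p.Prime) (hp2 : p ≠ 2) (hq : 1 ≤ q) (h : p ∣ q ^ m + 1) :
    ¬ p ∣ q - 1 := by
  intro h1
  have h2 : q - 1 ∣ q ^ m - 1 := by simpa only [_root_.one_pow] using Nat.sub_dvd_pow_sub_pow q 1 m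
  have h3 : p ∣ q ^ m - 1 := h1.trans h2
  have h4 : 1 ≤ q ^ m := Nat.one_le_pow _ _ hq
  have h5 := Nat.dvd_sub h h3
  have e : q ^ m + 1 - (q ^ m - 1) = 2 := by omega
  rw [e] at h5
  exact hp2 ((Nat.prime_dvd_prime_iff_eq hp Nat.prime_two).1 h5)

theorem psl_even (F : Type) [Field F] [Finite F] (h2 : (2 : F) = 0) {n : ℕ} (hn : 2 ≤ n) :
    ∃ p, p.Prime ∧ ¬ p ∣ Nat.card F - 1 ∧ ROP p (Matrix.ProjectiveSpecialLinearGroup (Fin n) F) := by
  haveI : NeZero n := ⟨by omega⟩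
  have hq1 : ¬ ∃ k, Nat.card F + 1 = 2 ^ k := not_card_add_one_two h2
  obtain ⟨m, hm⟩ : ∃ m, n = 2 * m ∨ n = 2 * m + 1 := ⟨n / 2, by omega⟩
  obtain ⟨K, _, _, _, D, lam, p, k, hfin, hDv, hDD, hlamD, hp, hp2, hk, hord, hgen, -, -⟩ :=
    exists_field F (m := m) (by omega) (fun _ => hq1)
  refine ⟨p, hp, ?_, ?_⟩
  · rw [hDv, ← pow_succ', hord] at hlamD
    exact not_dvd_sub_one hp hp2 (by have : 1 < Nat.card F := Finite.one_lt_card; omega)
      ((dvd_pow_self p (by omega)).trans hlamD)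
  rcases hm with rfl | rfl
  · refine psl_alg (Module.finBasisOfFinrankEq F K hfin) hgen (y := D.toLinearMap) (det_invol_two h2 ?_) ?_ hp hp2 hk hord ?_
    · ext v; exact hDD v
    · intro v
      show lam * D (lam * v) = D v
      rw [map_mul, ← mul_assoc, hlamD, one_mul]
    · intro a s _ _ h
      exact eq_of_sq_two h2 (fun a ha => mul_self_eq_zero.1 ha) h
  · have hlam1 : lam - 1 ≠ 0 := by
      intro h
      have h1 : lam ^ 1 = 1 := by rw [pow_one]; exact sub_eq_zero.1 h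
      have h3 := Nat.le_of_dvd one_pos ((hord 1).1 h1)
      have := Nat.one_lt_pow (by omega : k ≠ 0) hp.one_lt
      omega
    obtain ⟨N, hN, hN1⟩ := exists_pow_eq_one hlam1
    have hgen' := adjoin_prod_one hgen hN hN1
    have hfin' : finrank F (K × F) = 2 * m + 1 := by rw [Module.finrank_prod, hfin, Module.finrank_self]
    refine psl_alg (Module.finBasisOfFinrankEq F (K × F) hfin') hgen' (y := LinearMap.prodMap D.toLinearMap LinearMap.id)
      (det_invol_two h2 ?_) ?_ hp hp2 hk ?_ ?_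
    · ext v
      all_goals simp only [hDD, _root_.LinearMap.coe_comp, _root_.LinearMap.coe_inl, _root_.Function.comp_apply, _root_.Module.End.mul_apply, _root_.LinearMap.prodMap_apply, _root_.AlgEquiv.toLinearMap_apply, _root_.LinearMap.id_coe, _root_.id_eq, _root_.Module.End.one_apply, _root_.LinearMap.coe_inr, _root_.map_zero]
    · rintro ⟨v, c⟩
      refine Prod.ext ?_ ?_
      · show lam * D (lam * v) = D v
        rw [map_mul, ← mul_assoc, hlamD, one_mul]
      · show (1 : F) * (1 * c) = c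
        rw [one_mul, one_mul]
    · intro j
      rw [← hord, Prod.ext_iff]
      show lam ^ j = 1 ∧ (1 : F) ^ j = 1 ↔ _
      rw [one_pow, and_iff_left rfl]
    · intro a s _ _ h
      refine eq_of_sq_two h2 (fun a ha => ?_) h
      rw [Prod.ext_iff] at ha
      exact Prod.ext (mul_self_eq_zero.1 ha.1) (mul_self_eq_zero.1 ha.2)

theorem psl_jj (F : Type) [Field F] [Finite F] (h2 : (2 : F) ≠ 0) {n : ℕ} (hn : 2 ≤ n) (hodd : Odd n)
    (hi : ¬ ∃ i : F, i ^ 2 = -1) (p : ℕ) [CharP F p] :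
    ROP p (Matrix.ProjectiveSpecialLinearGroup (Fin (n + 1)) F) := by
  have hp : p.Prime := CharP.char_is_prime F p
  have hp2 : p ≠ 2 := by
    rintro rfl
    exact h2 (CharP.cast_eq_zero F 2)
  obtain ⟨k, hk, hord⟩ := Tr.exists_order_lam F n hp h2 hn
  have hfin : finrank F (Tr F n × F) = n + 1 := by rw [Module.finrank_prod, Tr.finrank_eq, Module.finrank_self]
  set x : Module.End F (Tr F n × F) := LinearMap.mulLeft F ((Tr.lam F n, 1) : Tr F n × F) with hx
  set y : Module.End F (Tr F n × F) := LinearMap.prodMap (Tr.D F n).toLinearMap (((-1 : F) ^ (n / 2)) • LinearMap.id) with hy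
  have hxy : x * y * x = y := by
    apply LinearMap.ext
    rintro ⟨u, t⟩
    refine Prod.ext ?_ ?_
    · show Tr.lam F n * Tr.D F n (Tr.lam F n * u) = Tr.D F n u
      rw [map_mul, ← mul_assoc, Tr.lam_mul_D, one_mul]
    · show (1 : F) * ((-1) ^ (n / 2) * (1 * t)) = (-1) ^ (n / 2) * t
      rw [one_mul, one_mul]
  have hdety : LinearMap.det y = 1 := by
    rw [hy, LinearMap.det_prodMap, Tr.det_D, LinearMap.det_smul, LinearMap.det_id, Module.finrank_self, pow_one,
      mul_one, ← pow_add]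
    exact Even.neg_one_pow ⟨_, rfl⟩
  have hord' : ∀ j, x ^ j = 1 ↔ p ^ k ∣ j := by
    intro j
    rw [hx, mulLeft_pow_eq_one_iff, ← hord, Prod.ext_iff]
    show Tr.lam F n ^ j = 1 ∧ (1 : F) ^ j = 1 ↔ _
    rw [one_pow, and_iff_left rfl]
  have hpk : Odd (p ^ k) := (hp.odd_of_ne_two hp2).pow
  refine psl_crit (Module.finBasisOfFinrankEq F (Tr F n × F) hfin)
    (det_eq_one_of_inv (by rw [hdety]; exact one_ne_zero) hxy hpk ((hord' _).2 dvd_rfl)) hdety hxy hp hp2 hk hord' ?_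
  intro g s hdet hcomm hsq
  have hs : s ≠ 0 := by
    rintro rfl
    have h3 := congrArg LinearMap.det hsq
    rw [zero_smul, map_mul, hdet, mul_one] at h3
    have h4 : LinearMap.det (0 : Module.End F (Tr F n × F)) = 0 := by
      rw [LinearMap.det_zero, hfin, zero_pow (by omega)]
    rw [h4] at h3
    exact one_ne_zero h3
  rcases Tr.jj_sq F hp h2 hn (fun v => LinearMap.congr_fun hcomm v) hs hsq with h | ⟨t, -, ht⟩
  · exact h
  · exfalso
    rw [hdet, hodd.neg_pow] at ht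
    obtain ⟨m, rfl⟩ := hodd
    exact hi ⟨t ^ (m + 1), by rw [← pow_mul]; linear_combination ht⟩

/-- **`PSL_n(q)`**, `3 ≤ n`: the statement for S4986 -/
theorem psl_row {F : Type} [Field F] [Fintype F] {n : ℕ} (hn : 3 ≤ n) :
    Cfsg.Agent.H692.Rel.ROC (Matrix.ProjectiveSpecialLinearGroup (Fin n) F) (Nat.gcd n (Fintype.card F - 1)) := by
  have key : ∃ p, p.Prime ∧ ¬ p ∣ Nat.card F - 1 ∧ ROP p (Matrix.ProjectiveSpecialLinearGroup (Fin n) F) := by
    by_cases h2 : (2 : F) = 0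
    · exact psl_even F h2 (by omega)
    obtain ⟨p, hpc⟩ := CharP.exists F
    have hp : p.Prime := CharP.char_is_prime F p
    refine ⟨p, hp, ?_, ?_⟩
    · intro h
      haveI : Fact p.Prime := ⟨hp⟩
      obtain ⟨m, -, hm⟩ := FiniteField.card F p
      have h3 : p ∣ Fintype.card F := by rw [hm]; exact dvd_pow_self p (PNat.ne_zero m)
      rw [Nat.card_eq_fintype_card] at h
      have h4 : 1 < Fintype.card F := Fintype.one_lt_card
      have h5 := Nat.dvd_sub h3 h
      have e : Fintype.card F - (Fintype.card F - 1) = 1 := by omega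
      rw [e] at h5
      exact hp.one_lt.ne' (Nat.dvd_one.1 h5)
    · by_cases h4 : n % 4 = 2
      · by_cases hi : ∃ i : F, i ^ 2 = -1
        · exact psl_unip F h2 (by omega) (Or.inr hi) p
        · obtain ⟨m, rfl⟩ : ∃ m, n = m + 1 := ⟨n - 1, by omega⟩
          exact psl_jj F h2 (by omega) (by rw [Nat.odd_iff]; omega) hi p
      · exact psl_unip F h2 (by omega) (Or.inl h4) p
  obtain ⟨p, hp, h1, h2⟩ := key
  rw [Nat.card_eq_fintype_card] at h1
  exact h2.roc hp fun h => h1 (h.trans (Nat.gcd_dvd_right _ _))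

end Cfsg.Agent.H686.Roc
end

-- part: H686/Roc/SU
section
/-!
# Real elements of order a power of a given prime with centralizer of odd order: `PSU_n(q)`

The file follows helper101's `ROSU`, `ROSUnip`, `ROSTorus`, `ROSURow`, keeping track of the prime.
-/

set_option autoImplicit false
set_option linter.style.haveILetI false
set_option linter.unusedSectionVars false

namespace Cfsg.Agent.H686.Roc

open Module Cfsg Cfsg.Agent.H101.RO
open Cfsg.Agent.LieClassical.HermBasic Cfsg.Agent.LieClassical.SUBasic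

section Crit

variable {F : Type*} [Field F] [Fintype F] {q n : ℕ}

/-- **The criterion for `PSU_n`.** -/
theorem psu_crit (hF : Fintype.card F = q ^ 2) (hn : 3 ≤ n) {V : Type*} [AddCommGroup V] [Module F V]
    (hfin : finrank F V = n) (S : V →ₛₗ[(conj hF).toRingHom] V →ₗ[F] F) (hS : S.IsSymm) (hnd : S.SeparatingLeft)
    {x y : Module.End F V} (hx : ∀ u v, S (x u) (x v) = S u v) (hy : ∀ u v, S (y u) (y v) = S u v)
    (hdy : LinearMap.det y = 1)
    (hxy : x * y * x = y) {p k : ℕ} (hp : p.Prime) (hp2 : p ≠ 2) (hk : 1 ≤ k) (hord : ∀ j, x ^ j = 1 ↔ p ^ k ∣ j)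
    (hc : ∀ (g : Module.End F V) (s : F), (∀ u v, S (g u) (g v) = S u v) → LinearMap.det g = 1 → g * x = x * g →
      g * g = s • 1 → ∃ t : F, g = t • 1) : ROP p (PSU n F q) := by
  haveI : FiniteDimensional F V := FiniteDimensional.of_finrank_pos (by omega)
  haveI : NeZero n := ⟨by omega⟩
  obtain ⟨b', hb'⟩ := Cfsg.Agent.ClassicalGeometry.HermOrthonormal.exists_orthonormal_basis (conj_ne_id hF)
    (fun a => pow_q_pow_q hF a) S hS hnd
  let b : Basis (Fin n) F V := b'.reindex (finCongr hfin)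
  have hb : ∀ i j, S (b i) (b j) = if i = j then 1 else 0 := by
    intro i j
    rw [Basis.reindex_apply, Basis.reindex_apply, hb']
    simp only [EmbeddingLike.apply_eq_iff_eq]
  have hmv : ∀ (T : Module.End F V) (h : LinearMap.det T = 1) (u : Fin n → F),
      b.equivFun.symm (((slOf b T h : Matrix.SpecialLinearGroup (Fin n) F) : Matrix (Fin n) (Fin n) F).mulVec u) =
        T (b.equivFun.symm u) := by
    intro T h u
    show b.equivFun.symm ((LinearMap.toMatrix b b T).mulVec u) = _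
    rw [LinearEquiv.symm_apply_eq]
    have h2 := LinearMap.toMatrix_mulVec_repr b b T (b.equivFun.symm u)
    have h3 : (b.repr (b.equivFun.symm u) : Fin n → F) = u := b.equivFun.apply_symm_apply u
    rw [h3] at h2
    exact h2
  have hmem : ∀ (T : Module.End F V) (h : LinearMap.det T = 1), (∀ u v, S (T u) (T v) = S u v) → slOf b T h ∈ SU n F q := by
    intro T h hT
    rw [Cfsg.Agent.LieClassical.HermBasic.mem_SU_iff]
    intro u v
    rw [herm_eq hF S b hb, herm_eq hF S b hb, hmv, hmv, hT]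
  have hiso : ∀ (A : SU n F q) (u v : V), S (endOf b A.1 u) (endOf b A.1 v) = S u v := by
    intro A u v
    have h1 : ∀ w, endOf b A.1 w = b.equivFun.symm ((A.1 : Matrix (Fin n) (Fin n) F).mulVec (b.equivFun w)) := by
      intro w
      have h3 : slOf b (endOf b A.1) (det_endOf b A.1) = A.1 := endOf_injective b (endOf_slOf b _ _)
      have h2 := hmv (endOf b A.1) (det_endOf b A.1) (b.equivFun w)
      rw [h3, LinearEquiv.symm_apply_apply] at h2
      exact h2.symm
    rw [h1, h1, ← herm_eq hF S b hb, (Cfsg.Agent.LieClassical.HermBasic.mem_SU_iff A.1).1 A.2, herm_eq hF S b hb, LinearEquiv.symm_apply_apply,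
      LinearEquiv.symm_apply_apply]
  let ρ : SU n F q →* Module.End F V := (slHom b).comp (SU n F q).subtype
  have hρ : ∀ A : SU n F q, ρ A = endOf b A.1 := fun _ => rfl
  have hpk : Odd (p ^ k) := (hp.odd_of_ne_two hp2).pow
  have hdx : LinearMap.det x = 1 := det_eq_one_of_inv (by rw [hdy]; exact one_ne_zero) hxy hpk ((hord _).2 dvd_rfl)
  have hcen : ∀ A, A ∈ Subgroup.center (SU n F q) ↔ ∃ s : F, ρ A = s • (1 : Module.End F V) := by
    intro A
    constructor
    · intro hA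
      obtain ⟨c, hcn, hcq, rfl⟩ := (mem_center_SU_iff hF hn A).1 hA
      refine ⟨c, ?_⟩
      rw [hρ]
      unfold endOf
      have : (((suScalar q c hcn hcq : SU n F q) : Matrix.SpecialLinearGroup (Fin n) F) : Matrix (Fin n) (Fin n) F) =
          c • (1 : Matrix (Fin n) (Fin n) F) := by rw [coe_suScalar, Matrix.smul_one_eq_diagonal]
      show (LinearMap.toMatrixAlgEquiv b).symm
        (((suScalar q c hcn hcq : SU n F q) : Matrix.SpecialLinearGroup (Fin n) F) : Matrix (Fin n) (Fin n) F) = _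
      rw [this, map_smul, map_one]
    · rintro ⟨s, hs⟩
      have h1 : A.1 ∈ Subgroup.center (Matrix.SpecialLinearGroup (Fin n) F) := (mem_center_iff_endOf b A.1).2 ⟨s, hs⟩
      rw [Subgroup.mem_center_iff] at h1 ⊢
      intro B
      exact Subtype.ext (h1 B.1)
  have hXe : ρ ⟨slOf b x hdx, hmem x hdx hx⟩ = x := endOf_slOf b x hdx
  have hYe : ρ ⟨slOf b y hdy, hmem y hdy hy⟩ = y := endOf_slOf b y hdy
  refine proj_crit ρ (fun A A' h => Subtype.ext (endOf_injective b h)) hcen (X := ⟨slOf b x hdx, hmem x hdx hx⟩)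
    (Y := ⟨slOf b y hdy, hmem y hdy hy⟩) (by rw [hXe, hYe, hxy]) hp hp2 hk (by rw [hXe]; exact hord) ?_
  intro A s hcomm hsq
  rw [hXe] at hcomm
  exact hc (ρ A) s (hiso A) (det_endOf b A.1) hcomm hsq

/-- **Algebra criterion for `PSU_n`.** -/
theorem psu_alg (hF : Fintype.card F = q ^ 2) (hn : 3 ≤ n) {R : Type*} [CommRing R] [Algebra F R]
    (hfin : finrank F R = n) (J : R →+* R) (hJ : ∀ c : F, J (algebraMap F R c) = algebraMap F R (c ^ q))
    (hJJ : ∀ v, J (J v) = v) (l : R →ₗ[F] F)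
    (hl : ∀ w, l (J w) = l w ^ q) (hnd : ∀ u, (∀ v, l (u * v) = 0) → u = 0) {lam : R}
    (hlam : lam * J lam = 1) (hgen : Algebra.adjoin F {lam} = ⊤) {y : Module.End F R} (hdy : LinearMap.det y = 1)
    (hy : ∀ u v, l (y u * J (y v)) = l (u * J v)) (hxy : ∀ v, lam * y (lam * v) = y v)
    {p k : ℕ} (hp : p.Prime) (hp2 : p ≠ 2) (hk : 1 ≤ k) (hord : ∀ j, lam ^ j = 1 ↔ p ^ k ∣ j)
    (hc : ∀ (a : R) (s : F), s * s ^ q = 1 → a * J a = 1 → LinearMap.det (LinearMap.mulLeft F a) = 1 →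
      a * a = algebraMap F R s → ∃ t : F, a = algebraMap F R t) : ROP p (PSU n F q) := by
  let S : R →ₛₗ[(conj hF).toRingHom] R →ₗ[F] F :=
    LinearMap.mk₂'ₛₗ (conj hF).toRingHom (RingHom.id F) (fun u v => l (v * J u))
      (fun u u' v => by rw [map_add, mul_add, map_add])
      (fun c u v => by
        have h1 : J (c • u) = (c ^ q) • J u := by rw [Algebra.smul_def, map_mul, hJ, ← Algebra.smul_def]
        rw [h1, mul_smul_comm, map_smul]
        rfl)
      (fun u v v' => by rw [add_mul, map_add])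
      (fun c u v => by rw [smul_mul_assoc, map_smul]; rfl)
  have hSv : ∀ u v, S u v = l (v * J u) := fun _ _ => rfl
  have hS : S.IsSymm := ⟨fun u v => by
    show (S u v) ^ q = S v u
    rw [hSv, hSv, ← hl, map_mul, hJJ, mul_comm]⟩
  have hsep : S.SeparatingLeft := by
    intro u hu
    have h1 : J u = 0 := hnd _ fun v => by rw [mul_comm]; exact hu v
    rw [← hJJ u, h1, map_zero]
  haveI : Nontrivial R := Module.nontrivial_of_finrank_pos (R := F) (by omega)
  refine psu_crit hF hn hfin S hS hsep (x := LinearMap.mulLeft F lam) (y := y) ?_ (fun u v => hy v u) hdy ?_ hp hp2 hk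
    (fun j => by rw [mulLeft_pow_eq_one_iff, hord]) ?_
  · intro u v
    rw [hSv, hSv, LinearMap.mulLeft_apply, LinearMap.mulLeft_apply, map_mul J]
    have : lam * v * (J lam * J u) = (lam * J lam) * (v * J u) := by ring
    rw [this, hlam, one_mul]
  · ext v
    exact hxy v
  · intro g s hg hdet hcomm hsq
    have hgm := exists_mulLeft_of_comm hgen hcomm
    set a := g 1 with ha
    have h1 : a * J a = 1 := by
      have h2 : a * J a - 1 = 0 := by
        refine hnd _ fun v => ?_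
        have h3 := hg 1 v
        rw [hgm] at h3
        rw [hSv, hSv, LinearMap.mulLeft_apply, LinearMap.mulLeft_apply, mul_one, map_one, mul_one] at h3
        have : (a * J a - 1) * v = a * v * J a - v := by ring
        rw [this, map_sub, h3, sub_self]
      linear_combination h2
    have h2 : a * a = algebraMap F R s := by
      have h3 : a * a = (g * g) 1 := by
        rw [Module.End.mul_apply, ← ha, hgm]; rfl
      rw [h3, hsq, LinearMap.smul_apply, Module.End.one_apply, Algebra.algebraMap_eq_smul_one]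
    have h3 : s * s ^ q = 1 := by
      have h4 : algebraMap F R (s * s ^ q) = algebraMap F R 1 := by
        rw [map_mul, ← hJ, ← h2, map_mul, map_one]
        calc a * a * (J a * J a) = (a * J a) * (a * J a) := by ring
          _ = 1 := by rw [h1, one_mul]
      exact (algebraMap F R).injective h4
    obtain ⟨t, ht⟩ := hc a s h3 h1 (by rw [← hgm]; exact hdet) h2
    refine ⟨t, ?_⟩
    rw [hgm, ht]
    ext v
    rw [LinearMap.mulLeft_apply, LinearMap.smul_apply, Module.End.one_apply, Algebra.smul_def]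

end Crit

/-- **the unipotent case** -/
theorem psu_unip {F : Type} [Field F] [Fintype F] {q n : ℕ} (hF : Fintype.card F = q ^ 2) (hn : 3 ≤ n)
    (h2 : (2 : F) ≠ 0) (hγ : ∃ γ : F, γ ^ (q + 1) = (-1) ^ (n - 1) ∧ γ ^ n * (-1) ^ (n / 2) = 1)
    (p : ℕ) [CharP F p] : ROP p (PSU n F q) := by
  have hp : p.Prime := CharP.char_is_prime F p
  have hp2 : p ≠ 2 := by
    rintro rfl
    exact h2 (CharP.cast_eq_zero F 2)
  have hn0 : 0 < n := by omega
  obtain ⟨k, hk, hord⟩ := Tr.exists_order_lam F n hp h2 (by omega : 2 ≤ n)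
  obtain ⟨γ, hγ1, hγ2⟩ := hγ
  obtain ⟨c, hc0, hc⟩ : ∃ c : F, c ≠ 0 ∧ c ^ q = (-1) ^ (n - 1) * c := by
    rcases Nat.even_or_odd (n - 1) with h | h
    · exact ⟨1, one_ne_zero, by rw [h.neg_one_pow, one_pow, one_mul]⟩
    · obtain ⟨c, hc0, hc⟩ := exists_trace_zero_ne hF
      exact ⟨c, hc0, by rw [h.neg_one_pow]; linear_combination hc⟩
  refine psu_alg hF hn (Tr.finrank_eq F n) (Tr.J hF n) (Tr.J_algebraMap hF n) (Tr.J_J hF n) (c • Tr.l F n hn0) ?_ ?_
    (Tr.lam_mul_of (Tr.J_r hF n)) (Tr.adjoin_lam F n h2) (y := γ • (Tr.D F n).toLinearMap) ?_ ?_ ?_ hp hp2 hk hord ?_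
  · intro w
    rw [LinearMap.smul_apply, LinearMap.smul_apply, smul_eq_mul, smul_eq_mul, Tr.l_J, mul_pow, hc]
    ring
  · intro u hu
    refine Tr.l_nondeg F n hn0 fun v => ?_
    have := hu v
    rw [LinearMap.smul_apply, smul_eq_mul] at this
    exact (mul_eq_zero.1 this).resolve_left hc0
  · rw [LinearMap.det_smul, Tr.finrank_eq, Tr.det_D, hγ2]
  · intro u v
    show (c • Tr.l F n hn0) ((γ • Tr.D F n u) * Tr.J hF n (γ • Tr.D F n v)) = (c • Tr.l F n hn0) (u * Tr.J hF n v)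
    have h1 : (γ • Tr.D F n u) * Tr.J hF n (γ • Tr.D F n v) = γ ^ (q + 1) • Tr.D F n (u * Tr.J hF n v) := by
      rw [Tr.J_smul, smul_mul_smul_comm, ← Tr.D_J, ← map_mul, pow_succ']
    rw [h1, map_smul, LinearMap.smul_apply, Tr.l_D, LinearMap.smul_apply, smul_eq_mul, smul_eq_mul, smul_eq_mul, hγ1]
    have h3 : ((-1 : F) ^ (n - 1)) * (-1) ^ (n - 1) = 1 := by
      rw [← mul_pow, neg_one_mul, neg_neg, one_pow]
    linear_combination (c * Tr.l F n hn0 (u * Tr.J hF n v)) * h3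
  · intro v
    rw [LinearMap.smul_apply, LinearMap.smul_apply, AlgHom.toLinearMap_apply, AlgHom.toLinearMap_apply, map_mul,
      mul_smul_comm, ← mul_assoc, Tr.lam_mul_D, one_mul]
  · intro a s hs _ _ h
    refine Tr.eq_of_sq h2 (s := s) ?_ h
    rintro rfl
    rw [zero_mul] at hs
    exact zero_ne_one hs

/-- **The criterion from a hermitian algebra** -/
theorem psu_of_hermAlg {F : Type*} [Field F] [Fintype F] {q n : ℕ} (hF : Fintype.card F = q ^ 2) (hn : 3 ≤ n)
    {R : Type*} [CommRing R] [Algebra F R] (H : HermAlg F q R) (hfin : finrank F R = n) {ζ : F} (hζ : ζ ^ (q + 1) = 1)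
    (hdet : ζ ^ n * LinearMap.det H.D.toLinearMap = 1)
    {p k : ℕ} (hp : p.Prime) (hp2 : p ≠ 2) (hk : 1 ≤ k) (hord : ∀ j, H.lam ^ j = 1 ↔ p ^ k ∣ j)
    (hc : ∀ (a : R) (s : F), s * s ^ q = 1 → a * H.J a = 1 → LinearMap.det (LinearMap.mulLeft F a) = 1 →
      a * a = algebraMap F R s → ∃ t : F, a = algebraMap F R t) : ROP p (PSU n F q) := by
  refine psu_alg hF hn hfin H.J H.J_alg H.J_J H.l H.l_J H.nondeg H.lam_J H.gen (y := ζ • H.D.toLinearMap) ?_ ?_ ?_
    hp hp2 hk hord hc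
  · rw [LinearMap.det_smul, hfin, hdet]
  · intro u v
    show H.l ((ζ • H.D u) * H.J (ζ • H.D v)) = H.l (u * H.J v)
    have h1 : (ζ • H.D u) * H.J (ζ • H.D v) = ζ ^ (q + 1) • H.D (u * H.J v) := by
      rw [Algebra.smul_def ζ (H.D v), map_mul, H.J_alg, ← Algebra.smul_def, smul_mul_smul_comm, ← H.D_J, ← map_mul,
        pow_succ']
    rw [h1, hζ, one_smul, H.l_D]
  · intro v
    show H.lam * (ζ • H.D (H.lam * v)) = ζ • H.D v
    rw [mul_smul_comm, map_mul, ← mul_assoc, H.lam_D, one_mul]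

/-- characteristic two -/
theorem psu_two {F : Type*} [Field F] [Fintype F] {q n : ℕ} (hF : Fintype.card F = q ^ 2) (hn : 3 ≤ n)
    (h2 : (2 : F) = 0) {R : Type*} [CommRing R] [Algebra F R] (H : HermAlg F q R) (hfin : finrank F R = n)
    {p k : ℕ} (hp : p.Prime) (hp2 : p ≠ 2) (hk : 1 ≤ k) (hord : ∀ j, H.lam ^ j = 1 ↔ p ^ k ∣ j)
    (hred : ∀ a : R, a * a = 0 → a = 0) : ROP p (PSU n F q) := by
  refine psu_of_hermAlg hF hn H hfin (ζ := 1) (one_pow _) ?_ hp hp2 hk hord (fun a s _ _ _ h => eq_of_sq_two h2 hred h)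
  rw [one_pow, one_mul]
  refine det_invol_two h2 ?_
  ext v
  exact H.D_D v

/-- type C: `p` does not divide `q + 1` -/
theorem not_dvd_add_one_even {p q m : ℕ} (hp : p.Prime) (hp2 : p ≠ 2) (hm : Even m) (h : p ∣ q ^ m + 1) :
    ¬ p ∣ q + 1 := by
  intro h1
  obtain ⟨c, rfl⟩ := hm
  have h2 : (p : ℤ) ∣ (q : ℤ) - (-1) := by
    have : (p : ℤ) ∣ ((q + 1 : ℕ) : ℤ) := Int.natCast_dvd_natCast.2 h1
    push_cast at this
    rwa [sub_neg_eq_add]
  have h3 : (p : ℤ) ∣ (q : ℤ) ^ (c + c) - (-1) ^ (c + c) := h2.trans (sub_dvd_pow_sub_pow _ _ _)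
  rw [Even.neg_one_pow ⟨c, rfl⟩] at h3
  have h4 : (p : ℤ) ∣ (q : ℤ) ^ (c + c) + 1 := by
    have : (p : ℤ) ∣ ((q ^ (c + c) + 1 : ℕ) : ℤ) := Int.natCast_dvd_natCast.2 h
    push_cast at this
    exact this
  have h5 := dvd_sub h4 h3
  have e : (q : ℤ) ^ (c + c) + 1 - (q ^ (c + c) - 1) = 2 := by ring
  rw [e] at h5
  have h6 : p ∣ 2 := by exact_mod_cast h5
  exact hp2 ((Nat.prime_dvd_prime_iff_eq hp Nat.prime_two).1 h6)

/-- type B: `p` does not divide `q + 1` -/
theorem not_dvd_add_one_odd {p q m : ℕ} (hp : p.Prime) (hp2 : p ≠ 2) (hm : Odd m) (hq : 1 ≤ q) (h : p ∣ q ^ m - 1) :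
    ¬ p ∣ q + 1 := by
  intro h1
  have h2 : (p : ℤ) ∣ (q : ℤ) - (-1) := by
    have : (p : ℤ) ∣ ((q + 1 : ℕ) : ℤ) := Int.natCast_dvd_natCast.2 h1
    push_cast at this
    rwa [sub_neg_eq_add]
  have h3 : (p : ℤ) ∣ (q : ℤ) ^ m - (-1) ^ m := h2.trans (sub_dvd_pow_sub_pow _ _ _)
  rw [hm.neg_one_pow] at h3
  have h4 : (p : ℤ) ∣ (q : ℤ) ^ m - 1 := by
    have : (p : ℤ) ∣ ((q ^ m - 1 : ℕ) : ℤ) := Int.natCast_dvd_natCast.2 h
    rw [Nat.cast_sub (Nat.one_le_pow _ _ hq)] at this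
    push_cast at this
    exact this
  have h5 := dvd_sub h3 h4
  have e : (q : ℤ) ^ m - -1 - (q ^ m - 1) = 2 := by ring
  rw [e] at h5
  have h6 : p ∣ 2 := by exact_mod_cast h5
  exact hp2 ((Nat.prime_dvd_prime_iff_eq hp Nat.prime_two).1 h6)

theorem psu_row_two {F : Type} [Field F] [Fintype F] {q n : ℕ} (hF : Fintype.card F = q ^ 2) (hn : 3 ≤ n)
    (hsmall : ¬ (n = 3 ∧ q = 2)) (h2 : (2 : F) = 0) : ∃ p, p.Prime ∧ ¬ p ∣ q + 1 ∧ ROP p (PSU n F q) := by
  have hq2 : 2 ≤ q := two_le hF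
  have hqe : Even q := by
    have h3 := even_card_two h2
    rw [Nat.card_eq_fintype_card, hF] at h3
    exact even_iff_two_dvd.2 (Nat.prime_two.dvd_of_dvd_pow h3)
  obtain ⟨m, hm⟩ : ∃ m, n = 2 * m ∨ n = 2 * m + 1 := ⟨n / 2, by omega⟩
  have hred : ∀ (M : Type) [Field M] (a : M × M), a * a = 0 → a = 0 := fun M _ a ha =>
    Prod.ext (mul_self_eq_zero.1 (congrArg Prod.fst ha)) (mul_self_eq_zero.1 (congrArg Prod.snd ha))
  have key : ∃ (M : Type) (_ : Field M) (_ : Finite M) (_ : Algebra F M) (H : HermAlg F q (M × M)) (p k : ℕ),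
      finrank F M = m ∧ p.Prime ∧ p ≠ 2 ∧ ¬ p ∣ q + 1 ∧ 1 ≤ k ∧ (∀ j, H.lam ^ j = 1 ↔ p ^ k ∣ j) ∧ ∃ N, 1 ≤ N ∧ (H.lam - 1) ^ N = 1 := by
    rcases Nat.even_or_odd m with hme | hmo
    · obtain ⟨p, k, hp, hp2, hk, hd, hdp, hpq⟩ := exists_primpow (q := q) (m := m) hq2 (by omega) (fun h => by
        rw [h] at hme
        exact absurd hme (by decide))
      obtain ⟨M, i1, i2, i3, τ, τ', H, hfin, -, -, -, hord, hN⟩ := exists_C hF hme (by omega) hp hk hd hdp hpq
      exact ⟨M, i1, i2, i3, H, p, k, hfin, hp, hp2,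
        not_dvd_add_one_even hp hp2 hme ((dvd_pow_self p (by omega)).trans hdp), hk, hord, hN⟩
    · obtain ⟨p, hp, hp2, hd⟩ := exists_odd_primitive hq2 hmo (fun h => ⟨hqe, fun h' => hsmall ⟨by omega, h'⟩⟩)
      obtain ⟨M, i1, i2, i3, τ, τ', H, hfin, -, -, -, hord, hN⟩ := exists_B hF hmo hp hp2 hd
      exact ⟨M, i1, i2, i3, H, p, 1, hfin, hp, hp2,
        not_dvd_add_one_odd hp hp2 hmo (by omega) ((hd m).2 dvd_rfl), le_rfl, hord, hN⟩
  obtain ⟨M, _, _, _, H, p, k, hfin, hp, hp2, hpq1, hk, hord, N, hN, hN1⟩ := key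
  refine ⟨p, hp, hpq1, ?_⟩
  haveI : Module.Finite F M := inferInstance
  have hfin' : finrank F (M × M) = 2 * m := by rw [Module.finrank_prod, hfin, two_mul]
  rcases hm with rfl | rfl
  · exact psu_two hF hn h2 H hfin' hp hp2 hk hord (hred M)
  · refine psu_two hF hn h2 (H.prod hF hN hN1) (by rw [Module.finrank_prod, hfin', Module.finrank_self]) hp hp2 hk ?_ ?_
    · intro j
      rw [← hord]
      show ((H.lam, 1) : (M × M) × F) ^ j = 1 ↔ _
      rw [Prod.ext_iff]
      show H.lam ^ j = 1 ∧ (1 : F) ^ j = 1 ↔ _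
      rw [one_pow, and_iff_left rfl]
    · intro a ha
      exact Prod.ext (hred M _ (congrArg Prod.fst ha)) (mul_self_eq_zero.1 (congrArg Prod.snd ha))

theorem psu_row_odd {F : Type} [Field F] [Fintype F] {q n : ℕ} (hF : Fintype.card F = q ^ 2) (hn : 3 ≤ n)
    (h2 : (2 : F) ≠ 0) : ∃ p, p.Prime ∧ ¬ p ∣ q + 1 ∧ ROP p (PSU n F q) := by
  have hun : (∃ γ : F, γ ^ (q + 1) = (-1) ^ (n - 1) ∧ γ ^ n * (-1) ^ (n / 2) = 1) →
      ∃ p, p.Prime ∧ ¬ p ∣ q + 1 ∧ ROP p (PSU n F q) := by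
    intro hγ
    obtain ⟨p, hpc⟩ := CharP.exists F
    have hp : p.Prime := CharP.char_is_prime F p
    refine ⟨p, hp, ?_, psu_unip hF hn h2 hγ p⟩
    intro h
    haveI : Fact p.Prime := ⟨hp⟩
    obtain ⟨m, -, hm⟩ := FiniteField.card F p
    have h3 : p ∣ q := by
      refine hp.dvd_of_dvd_pow (n := 2) ?_
      rw [← hF, hm]
      exact dvd_pow_self p (PNat.ne_zero m)
    exact hp.one_lt.ne' (Nat.dvd_one.1 ((Nat.dvd_add_right h3).1 h))
  have hq2 : 2 ≤ q := two_le hF
  have hcard : Nat.card F = q ^ 2 := by rw [Nat.card_eq_fintype_card, hF]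
  have hqodd : q % 2 = 1 := by
    have h3 := natCard_odd_of_two h2
    rw [hcard] at h3
    by_contra h
    have : q % 2 = 0 := by omega
    rw [Nat.pow_mod, this] at h3
    norm_num at h3
  obtain ⟨i, hi⟩ : ∃ i : F, i ^ 2 = -1 := (exists_i_iff h2).2 (by
    rw [hcard, Nat.pow_mod]
    have : q % 4 = 1 ∨ q % 4 = 3 := by omega
    rcases this with h | h <;> rw [h])
  have hone : (-1 : F) ≠ 1 := fun h => h2 (by linear_combination -h)
  rcases Nat.even_or_odd n with hne | hno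
  · -- `n` even
    have hn1 : Odd (n - 1) := by
      obtain ⟨c, hc⟩ := hne
      exact ⟨c - 1, by omega⟩
    by_cases hq4 : q % 4 = 1
    · refine hun ⟨i, ?_, ?_⟩
      · obtain ⟨c, hc⟩ : ∃ c, q + 1 = 2 * (2 * c + 1) := ⟨q / 4, by omega⟩
        rw [hc, pow_mul, hi, hn1.neg_one_pow, Odd.neg_one_pow ⟨c, rfl⟩]
      · have : n = 2 * (n / 2) := by
          obtain ⟨c, hc⟩ := hne
          omega
        conv_lhs => rw [this]
        rw [pow_mul, hi, Nat.mul_div_cancel_left _ (by norm_num), ← mul_pow, neg_one_mul, neg_neg, one_pow]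
    · obtain ⟨a, u, hu, hau⟩ := Nat.exists_eq_two_pow_mul_odd (n := q + 1) (by omega)
      have ha2 : 2 ≤ a := by
        by_contra h
        have : a = 0 ∨ a = 1 := by omega
        obtain ⟨w, rfl⟩ := hu
        rcases this with rfl | rfl
        · rw [pow_zero] at hau; omega
        · rw [pow_one] at hau; (clear * - hq4 hau; omega)
      by_cases hna : 2 ^ (a + 1) ∣ n
      · -- unipotent
        have hdq : 2 ^ (a + 1) ∣ Nat.card F - 1 := by
          have h3 : Nat.card F - 1 = (q + 1) * (q - 1) := by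
            have := Nat.sq_sub_sq q 1
            rw [one_pow] at this
            rw [hcard, this]
          rw [h3, hau, pow_succ, mul_assoc]
          refine mul_dvd_mul_left _ (dvd_mul_of_dvd_right ?_ _)
          omega
        obtain ⟨γ, hγ0, hγ⟩ := exists_order hdq
        have hγ1 : γ ^ 2 ^ a = -1 := by
          have h3 : γ ^ 2 ^ a * γ ^ 2 ^ a = 1 := by
            rw [← pow_add, ← two_mul, ← pow_succ']
            exact (hγ _).2 dvd_rfl
          refine (mul_self_eq_one_iff.1 h3).resolve_left fun h => ?_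
          have h4 := Nat.le_of_dvd (by positivity) ((hγ _).1 h)
          rw [pow_succ] at h4
          have : 0 < 2 ^ a := by positivity
          omega
        refine hun ⟨γ, ?_, ?_⟩
        · rw [hau, pow_mul, hγ1, hu.neg_one_pow, hn1.neg_one_pow]
        · rw [(hγ n).2 hna, one_mul]
          apply Even.neg_one_pow
          have h8 : 2 ^ 2 ∣ n := (pow_dvd_pow 2 (by omega)).trans hna
          obtain ⟨c, hc⟩ := h8
          exact ⟨c, by omega⟩
      · -- the tori
        obtain ⟨m, hm⟩ : ∃ m, n = 2 * m := by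
          obtain ⟨c, hc⟩ := hne
          exact ⟨c, by omega⟩
        subst hm
        rcases Nat.even_or_odd m with hme | hmo
        · obtain ⟨p, k, hp, hp2, hk, hd, hdp, hpq⟩ := exists_primpow (q := q) (m := m) hq2 (by omega) (fun h => by
            rw [h] at hme
            exact absurd hme (by decide))
          obtain ⟨M, _, _, _, τ, τ', H, hfin, hJ, hτ, ⟨δ, hδ, hD⟩, hord, -⟩ := exists_C hF hme (by omega) hp hk hd hdp hpq
          haveI : Module.Finite F M := inferInstance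
          have hfin' : finrank F (M × M) = 2 * m := by rw [Module.finrank_prod, hfin, two_mul]
          refine ⟨p, hp, not_dvd_add_one_even hp hp2 hme ((dvd_pow_self p (by omega)).trans hdp),
            psu_of_hermAlg hF hn H hfin' (ζ := 1) (one_pow _) ?_ hp hp2 hk hord ?_⟩
          · rw [one_pow, one_mul, hD, LinearMap.det_prodMap, ← map_mul, hδ, map_one]
          · rw [hJ]
            refine mm_cond hF h2 hτ ?_
            intro t ht h3
            rw [hfin, hme.neg_one_pow, one_mul] at h3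
            obtain ⟨b, v, hv, hbv⟩ := Nat.exists_eq_two_pow_mul_odd (n := 2 * m) (by omega)
            have hba : b ≤ a := by
              by_contra h
              apply hna
              rw [hbv]
              exact (pow_dvd_pow 2 (by omega)).mul_right _
            obtain ⟨c, rfl⟩ := Nat.exists_eq_add_of_le hba
            have h4 : t ^ ((q + 1) * v) = -1 := by rw [pow_mul, ht, hv.neg_one_pow]
            have h5 : (q + 1) * v = 2 * m * (2 ^ c * u) := by rw [hau, hbv, pow_add]; ring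
            rw [h5, pow_mul, h3, one_pow] at h4
            exact hone h4.symm
        · obtain ⟨p, hp, hp2, hd⟩ := exists_odd_primitive hq2 hmo (fun h => absurd h (by omega))
          obtain ⟨M, _, _, _, τ, τ', H, hfin, hJ, hτ, hD, hord, -⟩ := exists_B hF hmo hp hp2 hd
          haveI : Module.Finite F M := inferInstance
          have hfin' : finrank F (M × M) = 2 * m := by rw [Module.finrank_prod, hfin, two_mul]
          obtain ⟨c, hc⟩ : ∃ c, q + 1 = 4 * c := ⟨(q + 1) / 4, by (clear * - hqodd hq4; omega)⟩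
          have hi4 : i ^ 4 = 1 := by
            have : i ^ 4 = (i ^ 2) ^ 2 := by ring
            rw [this, hi]; ring
          refine ⟨p, hp, not_dvd_add_one_odd hp hp2 hmo (by omega) ((hd m).2 dvd_rfl),
            psu_of_hermAlg hF hn H hfin' (ζ := i) ?_ ?_ hp hp2 le_rfl hord ?_⟩
          · rw [hc, pow_mul, hi4, one_pow]
          · rw [hD, det_swap h2, hfin, pow_mul, hi, ← mul_pow, neg_one_mul, neg_neg, one_pow]
          · rw [hJ]
            refine mm_cond hF h2 hτ ?_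
            intro t ht h3
            rw [hfin, hmo.neg_one_pow, neg_one_mul] at h3
            have h4 : t ^ (2 * m) = -1 := by linear_combination -h3
            have h5 : (t ^ (2 * m)) ^ (2 * c) = (t ^ (q + 1)) ^ m := by
              rw [← pow_mul, ← pow_mul]; congr 1; rw [hc]; ring
            rw [h4, ht, hmo.neg_one_pow, Even.neg_one_pow ⟨c, by ring⟩] at h5
            exact hone h5.symm
  · -- `n` odd
    obtain ⟨c, hc⟩ := exists_scalar_det (F := F) (n := n) (Or.inl (by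
      obtain ⟨t, rfl⟩ := hno
      omega))
    have hn1 : Even (n - 1) := by
      obtain ⟨t, rfl⟩ := hno
      exact ⟨t, by omega⟩
    refine hun ⟨(-1) ^ (n / 2), ?_, ?_⟩
    · rw [hn1.neg_one_pow, ← pow_mul]
      apply Even.neg_one_pow
      exact Even.mul_left (by rw [Nat.even_iff]; omega) _
    · rw [← pow_mul, ← pow_add]
      apply Even.neg_one_pow
      have : n / 2 * n + n / 2 = n / 2 * (n + 1) := by ring
      rw [this]
      exact Even.mul_left (by
        obtain ⟨t, rfl⟩ := hno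
        exact ⟨t + 1, by ring⟩) _

/-- **`PSU_n(q)`**: the statement for S4986, with the full `q + 1` -/
theorem psu_row' {F : Type} [Field F] [Fintype F] {n q : ℕ} (hF : Fintype.card F = q ^ 2) (hn : 3 ≤ n)
    (h32 : ¬ (n = 3 ∧ q = 2)) : Cfsg.Agent.H692.Rel.ROC (Cfsg.PSU n F q) (q + 1) := by
  have key : ∃ p, p.Prime ∧ ¬ p ∣ q + 1 ∧ ROP p (PSU n F q) := by
    by_cases h2 : (2 : F) = 0
    · exact psu_row_two hF hn h32 h2
    · exact psu_row_odd hF hn h2
  obtain ⟨p, hp, h1, h2⟩ := key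
  exact h2.roc hp h1

/-- **`PSU_n(q)`**: the statement for S4986 -/
theorem psu_row {F : Type} [Field F] [Fintype F] {n q : ℕ} (hF : Fintype.card F = q ^ 2) (hn : 3 ≤ n)
    (h32 : ¬ (n = 3 ∧ q = 2)) : Cfsg.Agent.H692.Rel.ROC (Cfsg.PSU n F q) (Nat.gcd n (q + 1)) :=
  (psu_row' hF hn h32).of_dvd (Nat.gcd_dvd_right _ _)

/-- **`PSU_4(3)`**: here the exponent is prime to `12` -/
theorem u43' {F : Type} [Field F] [Fintype F] (hF : Fintype.card F = 3 ^ 2) :
    Cfsg.Agent.H692.Rel.ROC (Cfsg.PSU 4 F 3) 12 := by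
  have hcard : Nat.card F = 3 ^ 2 := by rw [Nat.card_eq_fintype_card, hF]
  have h2 : (2 : F) ≠ 0 := by
    intro h
    have := even_card_two h
    rw [hcard] at this
    exact absurd this (by norm_num)
  have hone : (-1 : F) ≠ 1 := fun h => h2 (by linear_combination -h)
  have hme : Even 2 := ⟨1, rfl⟩
  obtain ⟨p, k, hp, hp2, hk, hd, hdp, hpq⟩ := exists_primpow (q := 3) (m := 2) (by norm_num) (by omega) (fun h => by
    exact absurd h (by decide))
  obtain ⟨M, _, _, _, τ, τ', H, hfin, hJ, hτ, ⟨δ, hδ, hD⟩, hord, -⟩ := exists_C hF hme (by omega) hp hk hd hdp hpq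
  haveI : Module.Finite F M := inferInstance
  have hfin' : finrank F (M × M) = 4 := by rw [Module.finrank_prod, hfin]
  have h4 : ROP p (PSU 4 F 3) := by
    refine psu_of_hermAlg hF (by norm_num) H hfin' (ζ := 1) (one_pow _) ?_ hp hp2 hk hord ?_
    · rw [one_pow, one_mul, hD, LinearMap.det_prodMap, ← map_mul, hδ, map_one]
    · rw [hJ]
      refine mm_cond hF h2 hτ ?_
      intro t ht h3
      rw [hfin, hme.neg_one_pow, one_mul] at h3
      have h5 : t ^ (3 + 1) = 1 := h3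
      rw [h5] at ht
      exact hone ht.symm
  refine h4.roc hp fun h => ?_
  have h5 : (12 : ℕ) = 3 * (3 + 1) := rfl
  rw [h5] at h
  rcases hp.dvd_mul.1 h with h | h
  · exact hpq h
  · exact not_dvd_add_one_even hp hp2 hme ((dvd_pow_self p (by omega)).trans hdp) h

end Cfsg.Agent.H686.Roc
end

-- part: H742/RocRows
section
/-!
# Stem extensions with kernels of odd order and real elements with centralizers of odd order (task 1083, S4986)

`rows_known` : the rows of the known simple groups, from the rows of `A6`, `A7` and of seven sporadic groups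
(`Open`, task 1082).
-/

set_option autoImplicit false

universe u v w

namespace Cfsg.Agent.H742.Roc

open Cfsg Cfsg.Agent.H692.Rel Cfsg.Agent.H742.OddMult

/-- The rows of task 1082. -/
structure Open : Prop where
  alt6 : ROC (alternatingGroup (Fin 6)) 3
  alt7 : ROC (alternatingGroup (Fin 7)) 3
  m22 : ∀ {S : Type u} [Group S] [Finite S], Spor.IsoM22 S → ROC S 3
  mcl : ∀ {S : Type u} [Group S] [Finite S], Spor.IsoMcL S → ROC S 3
  suz : ∀ {S : Type u} [Group S] [Finite S], Spor.IsoSuz S → ROC S 3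
  fi22 : ∀ {S : Type u} [Group S] [Finite S], Spor.IsoFi22 S → ROC S 3
  fi24 : ∀ {S : Type u} [Group S] [Finite S], Spor.IsoFi24' S → ROC S 3
  on : ∀ {S : Type u} [Group S] [Finite S], Spor.IsoON S → ROC S 3
  j3 : ∀ {S : Type u} [Group S] [Finite S], Spor.IsoJ3 S → ROC S 3

theorem roc_pow {S : Type v} [Group S] {m : ℕ} (h : ROC S m) (k : ℕ) : ROC S (m ^ k) := by
  obtain ⟨x, h1, h2, h3⟩ := h
  exact ⟨x, Nat.Coprime.pow_right k h1, h2, h3⟩

theorem roc_equiv {S : Type v} [Group S] {T : Type w} [Group T] {m : ℕ} (e : Nonempty (S ≃* T)) (h : ROC T m) :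
    ROC S m := by
  obtain ⟨e⟩ := e
  exact h.congr e.symm

theorem roc_of_oddCase {S : Type u} [Group S] [Finite S] (H : Open.{u}) {m : ℕ} (h : OddCase S m) : ROC S m := by
  cases h with
  | alt6 e hm => subst hm; exact roc_equiv e H.alt6
  | alt7 e hm => subst hm; exact roc_equiv e H.alt7
  | psl F _ _ n hn e hm => exact (roc_equiv e (H686.Roc.psl_row hn)).of_dvd hm
  | psu F _ _ n q hF hn h32 e hm => exact (roc_equiv e (H686.Roc.psu_row hF hn h32)).of_dvd hm
  | psu43 F _ _ hF e hm =>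
    exact (roc_equiv e (roc_pow ((H686.Roc.u43' hF).of_dvd (show 3 ∣ 12 by norm_num)) 2)).of_dvd hm
  | o73 F _ _ hF e hm => subst hm; exact roc_equiv e (o73 hF)
  | g23 F _ _ hF e hm => subst hm; exact roc_equiv e (g23 hF)
  | e6 F _ _ h3 e hm => subst hm; exact roc_equiv e e6
  | te6 K _ _ q hq hK h3 e hm => subst hm; exact roc_equiv e (te6 hq hK)
  | m22 h hm => subst hm; exact H.m22 h
  | mcl h hm => subst hm; exact H.mcl h
  | suz h hm => subst hm; exact H.suz h
  | fi22 h hm => subst hm; exact H.fi22 h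
  | fi24 h hm => subst hm; exact H.fi24 h
  | on h hm => subst hm; exact H.on h
  | j3 h hm => subst hm; exact H.j3 h

theorem rows_known {S : Type u} [Group S] [Finite S] (H : Open.{u}) (hna : ¬ IsMulCommutative S)
    (h : IsKnownSimple' S) {Γ : Type v} [Group Γ] [Finite Γ] {σ : Γ →* S} (hσ : Cfsg.IsStemExtension σ)
    (hodd : Odd (Nat.card σ.ker)) (h1 : Nat.card σ.ker ≠ 1) : ROC S (Nat.card σ.ker) :=
  roc_of_oddCase H (odd_cases_known hna h Γ σ hσ hodd h1)

end Cfsg.Agent.H742.Roc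
end

-- part: H692/Rel/Rows
section
/-!
# The rows (helper692, for S4986)
-/

set_option autoImplicit false

namespace Cfsg.Agent.H692.Rel

open Cfsg

universe u

theorem openRows : Cfsg.Agent.H742.Roc.Open.{u} where
  alt6 := Cfsg.Agent.H30.RocSpor.alt6
  alt7 := Cfsg.Agent.H30.RocSpor.alt7
  m22 := fun h => Cfsg.Agent.H30.RocSpor.m22 h
  mcl := fun h => Cfsg.Agent.H30.RocSpor.mcl h
  suz := fun h => Cfsg.Agent.H30.RocSpor.suz h
  fi22 := fun h => Cfsg.Agent.H30.RocSpor.fi22 h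
  fi24 := fun h => Cfsg.Agent.H30.RocSpor.fi24 h
  on := fun h => Cfsg.Agent.H30.RocSpor.on h
  j3 := fun h => Cfsg.Agent.H30.RocSpor.j3 h

theorem rows_of (hc : ∀ (S : Type u) [Group S] [Finite S] [IsSimpleGroup S], IsKnownSimple' S) :
    RowsHyp.{u} := by
  intro S Γ _ _ _ _ _ σ hna hσ hodd h1
  exact Cfsg.Agent.H742.Roc.rows_known openRows hna (hc S) hσ hodd h1

end Cfsg.Agent.H692.Rel
end
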