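import Mathlib
import Cfsg.Agent.H665.EvenDegree
import Cfsg.Agent.CharactersDeep.Extraspecial
import Cfsg.Agent.H586.GW.Final
import Cfsg.Agent.CharactersDeep.ExtUnique
import Cfsg.Agent.H669.Basic
import Cfsg.Prelude.Def_KGroupFacts
import Cfsg.Prelude.Def_DegreeGraph
import Cfsg.Agent.KFacts.MulSpor.ONWords
import Cfsg.Agent.KFacts.ON.Words_m3
import Cfsg.Agent.H661.SporCount_m3
import Cfsg.Agent.H101.RealOdd
import Cfsg.Agent.H661.SporMcL
import Cfsg.Agent.H722.RealP
import Cfsg.Agent.H992.Stages.Mathieu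
import Cfsg.Agent.H898.J3Cent
import Cfsg.Agent.H713.Spor.Fi22
import Cfsg.Agent.H474.Suz13.Main
import Cfsg.Agent.H603.SporElim
import Cfsg.Agent.H30.IMFi24
import Cfsg.Agent.H95.StemCover
import Cfsg.Agent.S0252
import Cfsg.Agent.S0254
import Cfsg.Agent.S0256
import Cfsg.Agent.S0822
import Cfsg.Agent.S0892
import Cfsg.Agent.S2086
import Cfsg.Agent.S2087
import Cfsg.Agent.S2088
import Cfsg.Agent.S2089
import Cfsg.Agent.S2090
import Cfsg.Agent.S2091
import Cfsg.Agent.S2092
import Cfsg.Agent.S2093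
import Cfsg.Agent.S2094
import Cfsg.Agent.S2095
import Cfsg.Agent.S2096
import Cfsg.Agent.S2097
import Cfsg.Agent.S2098
import Cfsg.Agent.S2099
import Cfsg.Agent.S2100
import Cfsg.Agent.S2101
import Cfsg.Agent.S2102
import Cfsg.Agent.S2103
import Cfsg.Agent.S2104
import Cfsg.Agent.S2105
import Cfsg.Agent.S2106
import Cfsg.Agent.S2107
import Cfsg.Agent.S2108
import Cfsg.Agent.S2109
import Cfsg.Agent.S2110
import Cfsg.Agent.S2111
import Cfsg.Agent.S2112
import Cfsg.Agent.S2113
import Cfsg.Agent.S2114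
import Cfsg.Agent.S2115
import Cfsg.Agent.S2116
import Cfsg.Prelude.Def_Classification2
import Cfsg.Agent.S2034
import Cfsg.Agent.S2035
import Cfsg.Agent.S2036
import Cfsg.Agent.S2037
import Cfsg.Agent.S2038
import Cfsg.Agent.S2039
import Cfsg.Agent.S2040
import Cfsg.Agent.S2041
import Cfsg.Agent.S2042
import Cfsg.Agent.S2043
import Cfsg.Agent.S2044
import Cfsg.Agent.S2045
import Cfsg.Agent.S2046
import Cfsg.Agent.S2047
import Cfsg.Agent.S2048
import Cfsg.Agent.S2049
import Cfsg.Agent.S2050
import Cfsg.Agent.S2051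
import Cfsg.Agent.S2052
import Cfsg.Agent.S2053
import Cfsg.Agent.S2054
import Cfsg.Agent.S2055
import Cfsg.Agent.S2056
import Cfsg.Agent.S2057
import Cfsg.Agent.S2058
import Cfsg.Agent.S2059
import Cfsg.Agent.Characters.CCBasic
import Cfsg.Agent.H726.Rel.Defs
import Cfsg.Agent.H670.PSing
import Cfsg.Agent.H596.Degree
import Cfsg.Agent.S0142
import Cfsg.Agent.S0138
import Cfsg.Agent.S0145
import Cfsg.Agent.S4558
import Cfsg.Agent.Characters.GaloisIrr
import Cfsg.Agent.FastGrp
import Cfsg.Agent.Prune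
set_option linter.all false

section
prune_inst 0x7fd4fbfbaba829dfdfff7e3ffe9ddffe31848fffefdff94bbfecbb9fabdf23020de56b8d8de018fe1e76e2b410b87813f97eceffe86bdc7ffffd57b45ffbee4fe5f7bd0951d688341eac2fff63f1770e6f3ffeff7fffffffffffffffffffffbeffffefffffff

-- part: H692/Rel/Par
section
prune_inst 0x100800000000000000000000000000010000000
set_option linter.all false
open scoped Cfsg.Agent.FastGrp

/-!
# The parity principle over a central character (helper692, for S4986)

`AllOdd Z l`: `Z` is central and every irreducible character of `G` over the linear character `l` of `Z`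
has odd degree. `parity`: if `|Z|` is odd then a real element `x ∉ Z` which is conjugate to no `x z`,
`1 ≠ z ∈ Z`, has a centralizer of even order.
-/

set_option autoImplicit false

namespace Cfsg.Agent.H692.Rel

open Cfsg Cfsg.Agent.Characters.Core Cfsg.Agent.Blocks.Basic
open scoped ComplexConjugate

variable {G : Type*} [Group G]

/-- `χ` lies over the linear character `l` of the subgroup `Z`. -/
def Ov (Z : Subgroup G) (l : Z →* ℂˣ) (χ : G → ℂ) : Prop :=
  ∀ (g : G) (z : Z), χ (g * z) = χ g * l z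

/-- All irreducible characters over `l` have odd degree. -/
def AllOdd (Z : Subgroup G) (l : Z →* ℂˣ) : Prop :=
  ∀ χ : G → ℂ, IsIrrCharacter G χ → Ov Z l χ → Odd (charDegree χ)

/-- Restriction of a linear character of the centre. -/
theorem exists_mu {Z : Subgroup G} (hZ : Z ≤ Subgroup.center G) {χ : G → ℂ}
    (hχ : IsIrrCharacter G χ) : ∃ m : Z →* ℂˣ, Ov Z m χ := by
  obtain ⟨c, hc, -⟩ := Cfsg.Agent.CharactersDeep.Extraspecial.exists_central_hom hχ
  exact ⟨c.comp (Subgroup.inclusion hZ), fun g z => hc g (Subgroup.inclusion hZ z)⟩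

theorem sum_mu {Z : Subgroup G} [Fintype Z] {l : Z →* ℂˣ} (hZ : Z ≤ Subgroup.center G)
    {χ : G → ℂ} (hχ : IsIrrCharacter G χ) (g : G) [Decidable (Ov Z l χ)] :
    ∑ z : Z, ((l z : ℂ))⁻¹ * χ (g * z) = if Ov Z l χ then (Nat.card Z : ℂ) * χ g else 0 := by
  obtain ⟨m, hm⟩ := exists_mu hZ hχ
  have h0 : ∀ z : Z, ((l z : ℂ))⁻¹ * χ (g * z) = χ g * (((Units.coeHom ℂ).comp (m * l⁻¹)) z) := by
    intro z
    rw [hm g z]
    simp only [MonoidHom.comp_apply, MonoidHom.mul_apply, MonoidHom.inv_apply, map_mul,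
      Units.coeHom_apply, Units.val_inv_eq_inv_val]
    ring
  rw [Finset.sum_congr rfl fun z _ => h0 z, ← Finset.mul_sum]
  split_ifs with h
  · have h1 : m = l := by
      ext z
      have h2 := hm 1 z
      rw [h 1 z] at h2
      exact (mul_left_cancel₀ (isIrr_apply_one_ne_zero hχ) h2).symm
    have h2 : ∀ z : Z, ((Units.coeHom ℂ).comp (m * l⁻¹)) z = 1 := by
      intro z
      rw [h1]
      simp only [MonoidHom.comp_apply, MonoidHom.mul_apply, MonoidHom.inv_apply, mul_inv_cancel,
        map_one]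
    rw [Finset.sum_congr rfl fun z _ => h2 z, Finset.sum_const, Finset.card_univ, nsmul_eq_mul,
      mul_one, mul_comm, Nat.card_eq_fintype_card]
  · have h1 : (Units.coeHom ℂ).comp (m * l⁻¹) ≠ 1 := by
      intro h2
      apply h
      have h3 : m = l := by
        ext z
        have h4 := DFunLike.congr_fun h2 z
        simp only [MonoidHom.comp_apply, MonoidHom.mul_apply, MonoidHom.inv_apply, map_mul,
          Units.coeHom_apply, Units.val_inv_eq_inv_val, MonoidHom.one_apply] at h4
        have h5 : (l z : ℂ) ≠ 0 := Units.ne_zero _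
        field_simp at h4
        exact h4
      rw [← h3]
      exact hm
    rw [sum_hom_units_eq_zero _ h1, mul_zero]

/-- **Parity principle over a central character.** -/
theorem parity [Finite G] {Z : Subgroup G} {l : Z →* ℂˣ} (hZ : Z ≤ Subgroup.center G)
    (hZo : Odd (Nat.card Z)) (hall : AllOdd Z l) {x : G} (hx : x ∉ Z) (hreal : IsConj x x⁻¹)
    (hgood : ∀ z ∈ Z, IsConj (x * z) x → z = 1) :
    Even (Nat.card (Subgroup.centralizer ({x} : Set G))) := by
  classical
  have := Fintype.ofFinite G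
  have := Fintype.ofFinite Z
  have : Finite (IrrCharacter G) := finite_irr
  have := Fintype.ofFinite (IrrCharacter G)
  by_contra hodd
  rw [Nat.not_even_iff_odd] at hodd
  -- the values
  have hint : ∀ χ : IrrCharacter G, IsIntegral ℤ ((χ : G → ℂ) x) := by
    intro χ
    obtain ⟨n, ρ, -, h⟩ := χ.2
    rw [← h]
    exact Cfsg.Agent.Characters.Values.character_isIntegral ρ x
  let a : IrrCharacter G → integralClosure ℤ ℂ := fun χ => ⟨(χ : G → ℂ) x, hint χ⟩
  have ha : ∀ χ, algebraMap (integralClosure ℤ ℂ) ℂ (a χ) = (χ : G → ℂ) x := fun χ => rfl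
  have hinj : Function.Injective (algebraMap (integralClosure ℤ ℂ) ℂ) := Subtype.val_injective
  have hconj : ∀ χ : IrrCharacter G, conj ((χ : G → ℂ) x) = (χ : G → ℂ) x := by
    intro χ
    obtain ⟨c, hc⟩ := isConj_iff.1 hreal
    rw [← isCharacter_apply_inv (isIrr_isCharacter χ.2), ← hc]
    exact isIrr_isClassFunction χ.2 x c
  let s : Finset (IrrCharacter G) := Finset.univ.filter fun χ => Ov Z l (χ : G → ℂ)
  -- averaging over `Z`
  have key : ∀ g : G, (Nat.card Z : ℂ) * ∑ χ ∈ s, (χ : G → ℂ) g * (χ : G → ℂ) x =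
      ∑ z : Z, ((l z : ℂ))⁻¹ * (if IsConj (g * z) x then
        (Nat.card (Subgroup.centralizer ({x} : Set G)) : ℂ) else 0) := by
    intro g
    have e1 : ∀ z : Z, ((l z : ℂ))⁻¹ * (if IsConj (g * z) x then
        (Nat.card (Subgroup.centralizer ({x} : Set G)) : ℂ) else 0) =
        ∑ χ : IrrCharacter G, (((l z : ℂ))⁻¹ * (χ : G → ℂ) (g * z)) * (χ : G → ℂ) x := by
      intro z
      rw [← Cfsg.Agent.S0145.sum_irr_mul_conj (G := G) (g * z) x, Finset.mul_sum]
      refine Finset.sum_congr rfl fun χ _ => ?_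
      rw [hconj, mul_assoc]
    rw [Finset.sum_congr rfl fun z _ => e1 z, Finset.sum_comm, Finset.mul_sum, Finset.sum_filter]
    refine Finset.sum_congr rfl fun χ _ => ?_
    rw [← Finset.sum_mul, sum_mu hZ χ.2 g]
    split_ifs
    · ring
    · ring
  have h1 : (Nat.card Z : integralClosure ℤ ℂ) *
      ∑ χ ∈ s, (charDegree (χ : G → ℂ) : integralClosure ℤ ℂ) * a χ = 0 := by
    apply hinj
    have h0 : ∑ z : Z, ((l z : ℂ))⁻¹ * (if IsConj (1 * (z : G)) x then
        (Nat.card (Subgroup.centralizer ({x} : Set G)) : ℂ) else 0) = 0 := by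
      refine Finset.sum_eq_zero fun z _ => ?_
      rw [if_neg, mul_zero]
      intro h2
      rw [one_mul] at h2
      apply hx
      obtain ⟨c, hc⟩ := isConj_iff.1 h2
      have h3 := Subgroup.mem_center_iff.1 (hZ z.2) c
      rw [h3, mul_inv_cancel_right] at hc
      rw [← hc]
      exact z.2
    have h := (key 1).trans h0
    rw [map_mul, map_sum, map_zero, map_natCast, ← h]
    congr 1
    refine Finset.sum_congr rfl fun χ _ => ?_
    rw [map_mul, ha, map_natCast, irr_one_eq_charDegree χ.2]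
  have h2 : (Nat.card Z : integralClosure ℤ ℂ) * ∑ χ ∈ s, a χ ^ 2 =
      (Nat.card (Subgroup.centralizer ({x} : Set G)) : integralClosure ℤ ℂ) := by
    apply hinj
    have h := key x
    rw [Finset.sum_eq_single (1 : Z)] at h
    · rw [Subgroup.coe_one, mul_one, if_pos (IsConj.refl x), map_one, Units.val_one, inv_one,
        one_mul] at h
      rw [map_mul, map_sum, map_natCast, map_natCast, ← h]
      congr 1
      refine Finset.sum_congr rfl fun χ _ => ?_
      rw [map_pow, ha, pow_two]
    · intro z _ hz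
      rw [if_neg, mul_zero]
      exact fun h2 => hz (Subtype.ext (hgood z z.2 h2))
    · intro h3
      exact absurd (Finset.mem_univ _) h3
  -- reduce modulo two
  let I : Ideal (integralClosure ℤ ℂ) := Ideal.span {2}
  let q := Ideal.Quotient.mk I
  have h20 : q 2 = 0 := Ideal.Quotient.eq_zero_iff_mem.2 (Ideal.mem_span_singleton_self 2)
  have h10 : q 1 ≠ 0 := by
    intro h
    exact Cfsg.Agent.H665.EvenDegree.not_two_dvd_one
      (Ideal.mem_span_singleton.1 (Ideal.Quotient.eq_zero_iff_mem.1 h))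
  have h2' : (2 : integralClosure ℤ ℂ ⧸ I) = 0 := by rw [← h20]; rfl
  have hodd' : ∀ n : ℕ, Odd n → ((n : ℕ) : integralClosure ℤ ℂ ⧸ I) = 1 := by
    rintro n ⟨k, rfl⟩
    push_cast
    rw [h2', zero_mul, zero_add]
  have hnt : Nontrivial (integralClosure ℤ ℂ ⧸ I) := ⟨⟨q 1, 0, h10⟩⟩
  have hch : CharP (integralClosure ℤ ℂ ⧸ I) 2 := CharTwo.of_one_ne_zero_of_two_eq_zero one_ne_zero h2'
  have e1 : ∑ χ ∈ s, q (a χ) = 0 := by
    have h := congrArg q h1
    rw [map_mul, map_natCast, hodd' _ hZo, one_mul, map_sum, map_zero] at h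
    rw [← h]
    refine Finset.sum_congr rfl fun χ hχ => ?_
    rw [map_mul, map_natCast, hodd' _ (hall _ χ.2 (Finset.mem_filter.1 hχ).2), one_mul]
  have e2 : ∑ χ ∈ s, q (a χ) ^ 2 = 1 := by
    have h := congrArg q h2
    rw [map_mul, map_natCast, hodd' _ hZo, one_mul, map_sum, map_natCast, hodd' _ hodd] at h
    rw [← h]
    refine Finset.sum_congr rfl fun χ _ => ?_
    rw [map_pow]
  have e3 : (∑ χ ∈ s, q (a χ)) ^ 2 = ∑ χ ∈ s, q (a χ) ^ 2 := by
    have : Fact (Nat.Prime 2) := ⟨Nat.prime_two⟩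
    exact sum_pow_char 2 _ _
  rw [e1, e2] at e3
  exact one_ne_zero (e3.symm.trans (by ring))

end Cfsg.Agent.H692.Rel
end

-- part: H692/Rel/Red
section
set_option linter.all false
open scoped Cfsg.Agent.FastGrp

/-!
# Odd relative degrees: reduction to central faithful characters of odd order (helper692, for S4986)
-/

set_option autoImplicit false
set_option linter.style.haveILetI false
set_option linter.unusedSectionVars false

namespace Cfsg.Agent.H692.Rel

open Cfsg Cfsg.Agent.Characters.Core Cfsg.Agent.Characters.Clifford Cfsg.Agent.H672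
open Cfsg.Agent.H586.GW
open Cfsg.Agent.H672.RM (over_lin_iff TSet)
open scoped ComplexConjugate commutatorElement

universe u

/-- The statement for invariant characters and groups of index `n`. -/
def TG (n : ℕ) : Prop :=
  ∀ {G : Type u} [Group G] [Finite G] (N : Subgroup G) [N.Normal] (θ : N → ℂ),
    IsIrrCharacter N θ → inertia N θ = ⊤ → N.index = n → RelP 2 N.subtype θ →
      Group.IsSolvable (G ⧸ N)

/-- The statement for central subgroups of odd order and faithful characters. -/
def CG (n : ℕ) : Prop :=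
  ∀ {G : Type u} [Group G] [Finite G] (Z : Subgroup G) (_ : Z ≤ Subgroup.center G)
    (l : Z →* ℂˣ), Function.Injective l → Odd (Nat.card Z) → Z.index = n →
      RelP 2 Z.subtype (lf l) → Group.IsSolvable G

section bridge
variable {G : Type u} [Group G] [Finite G] {Z : Subgroup G}

theorem ov_iff_over (hZ : Z ≤ Subgroup.center G) (l : Z →* ℂˣ) {χ : G → ℂ}
    (hχ : IsIrrCharacter G χ) : Ov Z l χ ↔ Over Z.subtype χ (lf l) := by
  rw [over_lin_iff Z.subtype (fun z => hZ z.2) hχ]
  constructor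
  · intro h z
    have := h 1 z
    rwa [one_mul] at this
  · intro h g z
    obtain ⟨m, hm⟩ := exists_mu hZ hχ
    have h1 := hm 1 z
    rw [one_mul] at h1
    have h2 := h z
    rw [Subgroup.coe_subtype] at h2
    rw [h2] at h1
    rw [hm g z, mul_left_cancel₀ (isIrr_apply_one_ne_zero hχ) h1]

theorem allOdd_of_rel (hZ : Z ≤ Subgroup.center G) {l : Z →* ℂˣ} (h : RelP 2 Z.subtype (lf l)) :
    AllOdd Z l := by
  intro χ hχ hov
  have h1 := h χ hχ ((ov_iff_over hZ l hχ).1 hov)
  rw [charDegree_lf, mul_one] at h1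
  exact Nat.odd_iff.2 (Nat.two_dvd_ne_zero.1 h1)

theorem rel_of_allOdd (hZ : Z ≤ Subgroup.center G) {l : Z →* ℂˣ} (h : AllOdd Z l) :
    RelP 2 Z.subtype (lf l) := by
  intro χ hχ hov hd
  rw [charDegree_lf, mul_one] at hd
  have h1 := h χ hχ ((ov_iff_over hZ l hχ).2 hov)
  exact Nat.not_even_iff_odd.2 h1 (even_iff_two_dvd.2 hd)

/-- The determinant of a character over `l`. -/
theorem exists_det (hZ : Z ≤ Subgroup.center G) {l : Z →* ℂˣ} {χ : G → ℂ}
    (hχ : IsIrrCharacter G χ) (hov : Ov Z l χ) :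
    ∃ δ : G →* ℂˣ, ∀ z : Z, δ z = l z ^ charDegree χ := by
  obtain ⟨n, ρ, hρ, rfl⟩ := hχ
  have hirr : IsIrrCharacter G ρ.character := ⟨n, ρ, hρ, rfl⟩
  let D : ((Fin n → ℂ) →ₗ[ℂ] (Fin n → ℂ)) →* ℂ := LinearMap.det
  refine ⟨MonoidHom.toHomUnits (D.comp ρ), fun z => ?_⟩
  have hn : charDegree ρ.character = n := charDegree_of_eq (by
    rw [Representation.char_one]; simp)
  have hc : ∃ c : ℂ, ρ z = c • (1 : (Fin n → ℂ) →ₗ[ℂ] (Fin n → ℂ)) := by
    obtain ⟨c, hc⟩ := Cfsg.Agent.CharactersDeep.ExtUnique.exists_smul_of_comm ρ hρ (ρ z)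
      (fun g v => by
        have := Subgroup.mem_center_iff.1 (hZ z.2) g
        rw [← Module.End.mul_apply, ← Module.End.mul_apply, ← map_mul, ← map_mul, this])
    exact ⟨c, LinearMap.ext hc⟩
  obtain ⟨c, hc⟩ := hc
  have h1 := hov 1 z
  rw [one_mul] at h1
  have h2 : ρ.character z = c * n := by
    show LinearMap.trace ℂ _ (ρ z) = _
    rw [hc, map_smul, LinearMap.trace_one, smul_eq_mul]
    simp
  have h3 : ρ.character 1 = n := by
    rw [Representation.char_one]; simp
  have h4 : c = l z := by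
    rw [h2, h3, mul_comm] at h1
    refine mul_left_cancel₀ ?_ h1
    rw [← h3]
    exact isIrr_apply_one_ne_zero hirr
  apply Units.ext
  show LinearMap.det (ρ z) = _
  rw [hc, LinearMap.det_smul, map_one, mul_one, h4, hn]
  simp

end bridge

section odd
variable {G : Type u} [Group G] [Finite G] {Z : Subgroup G}

/-- Multiplying by a linear character of `G`: the character of `Z` may be assumed of odd order. -/
theorem exists_odd (hZ : Z ≤ Subgroup.center G) {l : Z →* ℂˣ}
    (hrel : RelP 2 Z.subtype (lf l)) :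
    ∃ l' : Z →* ℂˣ, RelP 2 Z.subtype (lf l') ∧ ∃ m : ℕ, Odd m ∧ ∀ z, l' z ^ m = 1 := by
  classical
  have hall := allOdd_of_rel hZ hrel
  obtain ⟨χ, hχ, hov⟩ := exists_over_subtype Z (isIrr_lf l)
  have hov' := (ov_iff_over hZ l hχ).2 hov
  have hd := hall χ hχ hov'
  obtain ⟨δ, hδ⟩ := exists_det hZ hχ hov'
  set d := charDegree χ with hdd
  obtain ⟨a, m, hm, ham⟩ := Nat.exists_eq_pow_mul_and_not_dvd (n := Nat.card Z) Nat.card_pos.ne' 2
    (by norm_num)
  -- `1 + d e ≡ 0 mod 2 ^ a`
  obtain ⟨e, he⟩ : ∃ e : ℕ, 2 ^ a ∣ 1 + d * e := by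
    have hcop : Nat.Coprime d (2 ^ a) := Nat.Coprime.pow_right _ hd.coprime_two_right
    rcases Nat.eq_zero_or_pos a with ha | ha
    · exact ⟨0, by rw [ha, pow_zero]; exact one_dvd _⟩
    · have h1 : 1 < 2 ^ a := Nat.one_lt_two_pow ha.ne'
      obtain ⟨j, hj⟩ := Nat.exists_mul_mod_eq_one_of_coprime hcop h1
      refine ⟨(2 ^ a - 1) * j, ?_⟩
      rw [Nat.dvd_iff_mod_eq_zero]
      have h2 : d * ((2 ^ a - 1) * j) = (2 ^ a - 1) * (d * j) := by ring
      rw [h2, Nat.add_mod, Nat.mul_mod, hj.2]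
      have h3 : (2 ^ a - 1) % 2 ^ a = 2 ^ a - 1 := Nat.mod_eq_of_lt (by omega)
      rw [h3, mul_one, Nat.mod_eq_of_lt h1, h3]
      have h4 : 1 + (2 ^ a - 1) = 2 ^ a := by omega
      rw [h4, Nat.mod_self]
  let μ : G →* ℂˣ := δ ^ e
  let l' : Z →* ℂˣ := l * μ.comp Z.subtype
  have hl' : ∀ z, l' z = l z ^ (1 + d * e) := by
    intro z
    show l z * (δ z) ^ e = _
    rw [hδ, ← pow_mul, pow_add, pow_one]
  refine ⟨l', ?_, m, ?_, ?_⟩
  · refine rel_of_allOdd hZ ?_
    intro ψ hψ hovψ
    have h1 := Cfsg.Agent.CharactersDeep.ExtUnique.isIrr_mul_hom hψ μ⁻¹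
    have h2 : Ov Z l (fun g => ψ g * (μ⁻¹ g : ℂˣ)) := by
      intro g z
      show ψ (g * z) * ((μ⁻¹ (g * z) : ℂˣ) : ℂ) = ψ g * ((μ⁻¹ g : ℂˣ) : ℂ) * l z
      rw [hovψ g z, map_mul]
      have h3 : ((l' z : ℂˣ) : ℂ) = (l z : ℂ) * ((μ z : ℂˣ) : ℂ) := by
        show ((l z * μ z : ℂˣ) : ℂ) = _
        push_cast; rfl
      have h4 : ((μ z : ℂˣ) : ℂ) * ((μ⁻¹ z : ℂˣ) : ℂ) = 1 := by
        rw [MonoidHom.inv_apply, ← Units.val_mul, mul_inv_cancel, Units.val_one]
      rw [h3, Units.val_mul]
      calc ψ g * ((l z : ℂ) * ((μ z : ℂˣ) : ℂ)) * (((μ⁻¹ g : ℂˣ) : ℂ) * ((μ⁻¹ z : ℂˣ) : ℂ))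
          = ψ g * ((μ⁻¹ g : ℂˣ) : ℂ) * l z * (((μ z : ℂˣ) : ℂ) * ((μ⁻¹ z : ℂˣ) : ℂ)) := by ring
        _ = _ := by rw [h4, mul_one]
    have h5 := hall _ h1 h2
    have h6 : charDegree (fun g => ψ g * (μ⁻¹ g : ℂˣ)) = charDegree ψ := by
      refine charDegree_of_eq ?_
      show ψ 1 * ((μ⁻¹ 1 : ℂˣ) : ℂ) = _
      rw [map_one, Units.val_one, mul_one]
      exact (coe_charDegree hψ).symm
    rwa [h6] at h5
  · exact Nat.odd_iff.2 (Nat.two_dvd_ne_zero.1 hm)
  · intro z
    rw [hl', ← pow_mul]
    obtain ⟨j, hj⟩ := he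
    rw [hj, mul_right_comm, ← ham, pow_mul, ← map_pow, pow_card_eq_one', map_one, one_pow]

/-- the central case for characters which are not faithful -/
theorem CG.all {n : ℕ} (h : CG.{u} n) (Z : Subgroup G)
    (hZ : Z ≤ Subgroup.center G) (l : Z →* ℂˣ)
    (hn : Z.index = n) (hrel : RelP 2 Z.subtype (lf l)) : Group.IsSolvable G := by
  classical
  obtain ⟨l, hrel, m, hm, hlm⟩ := exists_odd hZ hrel
  let K : Subgroup G := l.ker.map Z.subtype
  have hKZ : K ≤ Z := by
    rintro _ ⟨z, -, rfl⟩
    exact z.2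
  haveI hK : K.Normal := center_normal K (hKZ.trans hZ)
  let q : G →* G ⧸ K := QuotientGroup.mk' K
  have hq : Function.Surjective q := QuotientGroup.mk'_surjective K
  have hkq : q.ker = K := QuotientGroup.ker_mk' K
  let Z' : Subgroup (G ⧸ K) := Z.map q
  have hcomap : Z'.comap q = Z := by
    rw [Subgroup.comap_map_eq, hkq, sup_eq_left.2 hKZ]
  have hZ' : Z' ≤ Subgroup.center (G ⧸ K) := by
    rintro _ ⟨z, hz, rfl⟩
    rw [Subgroup.mem_center_iff]
    intro x
    obtain ⟨x, rfl⟩ := hq x
    rw [← map_mul, ← map_mul, Subgroup.mem_center_iff.1 (hZ hz) x]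
  let f : Z →* Z' := (q.comp Z.subtype).codRestrict Z' (fun z => ⟨z, z.2, rfl⟩)
  have hf : Function.Surjective f := by
    rintro ⟨_, z, hz, rfl⟩
    exact ⟨⟨z, hz⟩, rfl⟩
  have hkf : f.ker ≤ l.ker := by
    intro z hz
    have h1 : q (z : G) = 1 := congrArg Subtype.val (MonoidHom.mem_ker.1 hz)
    have h2 : (z : G) ∈ K := by rw [← hkq]; exact MonoidHom.mem_ker.2 h1
    obtain ⟨w, hw, hwz⟩ := h2
    have : w = z := Subtype.ext hwz
    rwa [← this]
  let l' : Z' →* ℂˣ := f.liftOfSurjective hf ⟨l, hkf⟩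
  have hl' : ∀ z, l' (f z) = l z := fun z => MonoidHom.liftOfRightInverse_comp_apply _ _ _ _ _
  have hinj : Function.Injective l' := by
    rw [injective_iff_map_eq_one]
    intro z hz
    obtain ⟨z, rfl⟩ := hf z
    rw [hl'] at hz
    apply Subtype.ext
    change q (z : G) = 1
    rw [← MonoidHom.mem_ker, hkq]
    exact ⟨z, hz, rfl⟩
  have hodd : Odd (Nat.card Z') := by
    by_contra hcon
    rw [Nat.not_odd_iff_even] at hcon
    haveI : Fact (Nat.Prime 2) := ⟨Nat.prime_two⟩
    obtain ⟨x, hx⟩ := exists_prime_orderOf_dvd_card' 2 (even_iff_two_dvd.1 hcon)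
    obtain ⟨z, rfl⟩ := hf x
    have h1 : f z ^ m = 1 := by
      apply hinj
      rw [map_pow, hl', hlm, map_one]
    have h2 := orderOf_dvd_of_pow_eq_one h1
    rw [hx] at h2
    exact Nat.not_even_iff_odd.2 hm (even_iff_two_dvd.2 h2)
  have hsol : Group.IsSolvable (G ⧸ K) := by
    refine h Z' hZ' l' hinj hodd ?_ ?_
    · rw [← hn]
      exact Subgroup.index_map_eq Z hq (by rw [hkq]; exact hKZ)
    · intro χ hχ hov hd
      have h1 : IsIrrCharacter G (χ ∘ q) := isIrr_comp q hq hχ
      refine hrel (χ ∘ q) h1 ?_ ?_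
      · rw [over_lin_iff Z.subtype (fun z => hZ z.2) h1]
        rw [over_lin_iff Z'.subtype (fun z => hZ' z.2) hχ] at hov
        intro z
        have h2 := hov (f z)
        rw [hl'] at h2
        change χ (q z) = χ (q 1) * _
        rw [map_one]
        exact h2
      · rw [charDegree_comp_one, charDegree_lf]
        rwa [charDegree_lf] at hd
  haveI hKs : Group.IsSolvable K := Group.isSolvable_of_comm (fun a b => Subtype.ext
    (Subgroup.mem_center_iff.1 (hZ (hKZ b.2)) (a : G)))
  exact Group.isSolvable_of_ker_le_range K.subtype q (by rw [hkq, Subgroup.range_subtype])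

end odd

/-- **Reduction to the central case.** -/
theorem tg_of_cg {n : ℕ} (hc : CG.{u} n) : TG.{u} n := by
  intro G _ _ N _ θ hθ hT hn hrel
  haveI : Fact (Nat.Prime 2) := ⟨Nat.prime_two⟩
  obtain ⟨Δ, Q, _, _, _, π, m, Z, l, hπ, hm, hcomap, hZ, h1, -⟩ :=
      exists_triple (p := 2) N hθ hT
  have hQ : Group.IsSolvable Q := hc.all Z hZ l (by
    rw [← hn, ← Subgroup.index_comap_of_surjective N hπ, hcomap,
      Subgroup.index_comap_of_surjective Z hm]) (h1 hrel)
  let g : Δ →* G ⧸ N := (QuotientGroup.mk' N).comp π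
  have hg : Function.Surjective g := (QuotientGroup.mk'_surjective N).comp hπ
  have hgk : g.ker = N.comap π := by
    rw [← MonoidHom.comap_ker, QuotientGroup.ker_mk']
  have hmk : m.ker ≤ g.ker := by
    rw [hgk, hcomap]
    intro x hx
    show m x ∈ Z
    rw [MonoidHom.mem_ker.1 hx]
    exact one_mem _
  let F : Q →* G ⧸ N := m.liftOfSurjective hm ⟨g, hmk⟩
  have hF : ∀ x, F (m x) = g x := fun x => MonoidHom.liftOfRightInverse_comp_apply _ _ _ _ _
  refine Group.isSolvable_of_surjective (f := F) ?_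
  intro y
  obtain ⟨x, rfl⟩ := hg y
  exact ⟨m x, hF x⟩

end Cfsg.Agent.H692.Rel
end

-- part: H692/Rel/Defs
section
set_option linter.all false
open scoped Cfsg.Agent.FastGrp

/-!
# Real elements with centralizer of odd order and order prime to `m` (helper692, for S4986)

* `ROC S m`: some real `x : S` of order prime to `m` has a centralizer of odd order;
* `ROC.congr`, `ROC.of_dvd`.
-/

set_option autoImplicit false

namespace Cfsg.Agent.H692.Rel

/-- `S` has a real element of order prime to `m` whose centralizer has odd order. -/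
def ROC (S : Type*) [Group S] (m : ℕ) : Prop :=
  ∃ x : S, (orderOf x).Coprime m ∧ IsConj x x⁻¹ ∧
    Odd (Nat.card ↥(Subgroup.centralizer ({x} : Set S)))

theorem ROC.of_dvd {S : Type*} [Group S] {m m' : ℕ} (h : ROC S m) (hd : m' ∣ m) : ROC S m' := by
  obtain ⟨x, h1, h2, h3⟩ := h
  exact ⟨x, h1.coprime_dvd_right hd, h2, h3⟩

theorem ROC.congr {S T : Type*} [Group S] [Group T] (e : S ≃* T) {m : ℕ} (h : ROC S m) :
    ROC T m := by
  obtain ⟨x, h1, h2, h3⟩ := h
  refine ⟨e x, by rwa [MulEquiv.orderOf_eq], ?_, ?_⟩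
  · obtain ⟨c, hc⟩ := isConj_iff.1 h2
    exact isConj_iff.2 ⟨e c, by rw [← map_mul, ← map_inv, ← map_mul, hc, map_inv]⟩
  · have h4 : Nat.card ↥(Subgroup.centralizer ({e x} : Set T)) =
        Nat.card ↥(Subgroup.centralizer ({x} : Set S)) := by
      refine (Nat.card_congr (Equiv.subtypeEquiv e.toEquiv fun a => ?_)).symm
      rw [Subgroup.mem_centralizer_singleton_iff, Subgroup.mem_centralizer_singleton_iff]
      constructor
      · intro h
        show e a * e x = e x * e a
        rw [← map_mul, h, map_mul]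
      · intro h
        have h5 : e (a * x) = e (x * a) := by rw [map_mul, map_mul]; exact h
        exact e.injective h5
    rw [h4]
    exact h3

/-- A prime order version. -/
theorem ROC.mk {S : Type*} [Group S] {m p k : ℕ} {x : S} (hp : p.Prime) (hpm : ¬ p ∣ m)
    (hx : orderOf x = p ^ k) (h2 : IsConj x x⁻¹)
    (h3 : Odd (Nat.card ↥(Subgroup.centralizer ({x} : Set S)))) : ROC S m :=
  ⟨x, by rw [hx]; exact Nat.Coprime.pow_left k ((Nat.Prime.coprime_iff_not_dvd hp).2 hpm), h2, h3⟩

end Cfsg.Agent.H692.Rel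
end

-- part: H692/Rel/Simple
section
set_option linter.all false
open scoped Cfsg.Agent.FastGrp

/-!
# Central extensions of simple groups (helper692, for S4986)

`simple_case`: `Z` central of odd order, `G ⧸ Z` simple nonabelian: some irreducible character of `G`
over the linear character `l` of `Z` has even degree.
-/

set_option autoImplicit false

namespace Cfsg.Agent.H692.Rel

open Cfsg Cfsg.Agent.Characters.Core Cfsg.Agent.Blocks.Basic Subgroup
open scoped commutatorElement

universe u

/-- Real elements with centralizers of odd order in the simple groups with a nontrivial stem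
extension of odd kernel. -/
def RowsHyp : Prop :=
  ∀ (S Γ : Type u) [Group S] [Finite S] [IsSimpleGroup S] [Group Γ] [Finite Γ] (σ : Γ →* S),
    ¬ IsMulCommutative S → IsStemExtension σ → Odd (Nat.card σ.ker) → Nat.card σ.ker ≠ 1 →
    ROC S (Nat.card σ.ker)

/-- Even degrees of the simple groups. -/
def IM2Hyp : Prop :=
  ∀ (S : Type u) [Group S] [Finite S] [IsSimpleGroup S], ¬ IsMulCommutative S →
    ∃ χ : S → ℂ, IsIrrCharacter S χ ∧ Even (charDegree χ)

variable {G : Type u} [Group G]

theorem card_comap_mk [Finite G] (Z : Subgroup G) [Z.Normal] (C : Subgroup (G ⧸ Z)) :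
    Nat.card (C.comap (QuotientGroup.mk' Z)) = Nat.card Z * Nat.card C := by
  have h1 := (C.comap (QuotientGroup.mk' Z)).card_mul_index
  have h2 := C.card_mul_index
  rw [Subgroup.index_comap_of_surjective C (QuotientGroup.mk'_surjective Z)] at h1
  have h3 : Nat.card G = Nat.card (G ⧸ Z) * Nat.card Z := Subgroup.card_eq_card_quotient_mul_card_subgroup Z
  have h4 : 0 < C.index := Nat.pos_of_ne_zero C.index_ne_zero_of_finite
  apply Nat.eq_of_mul_eq_mul_right h4
  rw [h1, h3, ← h2]
  ring

/-- A real element of `G ⧸ Z` of order prime to `|Z ∩ G'|` whose centralizer has odd order. -/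
theorem false_of_roc [Finite G] {Z : Subgroup G} [hZn : Z.Normal] (hZ : Z ≤ center G)
    (hZo : Odd (Nat.card Z)) {l : Z →* ℂˣ} (hall : AllOdd Z l) {D : Subgroup G} [D.Normal]
    (hDZ : ∀ g : G, ∃ d ∈ D, (g : G ⧸ Z) = (d : G ⧸ Z))
    {x : G ⧸ Z} (hx1 : x ≠ 1) (hn : (orderOf x).Coprime (Nat.card (Z ⊓ D : Subgroup G)))
    (hreal : IsConj x x⁻¹) (hodd : Odd (Nat.card (centralizer ({x} : Set (G ⧸ Z))))) : False := by
  set k := Nat.card (Z ⊓ D : Subgroup G) with hk
  set n := orderOf x with hn'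
  have hkpow : ∀ z ∈ Z ⊓ D, z ^ k = 1 := fun z hz => by
    have h1 : (⟨z, hz⟩ : ↥(Z ⊓ D)) ^ k = 1 := pow_card_eq_one'
    exact congrArg Subtype.val h1
  have hone : ∀ z ∈ Z ⊓ D, z ^ n = 1 → z = 1 := fun z hz h1 => by
    rw [← orderOf_eq_one_iff]
    exact Nat.eq_one_of_dvd_coprimes hn (orderOf_dvd_of_pow_eq_one h1)
      (orderOf_dvd_of_pow_eq_one (hkpow z hz))
  -- the lift
  obtain ⟨y, hyD, hyx, hyn⟩ : ∃ y ∈ D, (y : G ⧸ Z) = x ∧ y ^ n = 1 := by
    obtain ⟨g, rfl⟩ := QuotientGroup.mk_surjective x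
    obtain ⟨d, hd, hgd⟩ := hDZ g
    have hdn : d ^ n ∈ Z ⊓ D := by
      refine mem_inf.2 ⟨?_, pow_mem hd _⟩
      rw [← QuotientGroup.eq_one_iff, QuotientGroup.mk_pow, ← hgd]
      exact pow_orderOf_eq_one _
    -- `k k' ≡ 1 mod n`
    have hn1 : 1 < orderOf (g : G ⧸ Z) := by
      have h1 : orderOf (g : G ⧸ Z) ≠ 1 := fun h => hx1 (orderOf_eq_one_iff.1 h)
      have h2 := orderOf_pos (g : G ⧸ Z)
      omega
    obtain ⟨j, hj⟩ := Nat.exists_mul_mod_eq_one_of_coprime hn.symm hn1
    refine ⟨d ^ (k * j), pow_mem hd _, ?_, ?_⟩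
    · rw [QuotientGroup.mk_pow, ← hgd]
      conv_rhs => rw [← pow_one (g : G ⧸ Z)]
      refine pow_eq_pow_iff_modEq.2 ?_
      show (k * j) % _ = 1 % _
      rw [hj.2, Nat.mod_eq_of_lt hn1]
    · rw [← pow_mul, mul_comm, pow_mul, pow_mul, hkpow _ hdn, one_pow]
  have hyn' : ∀ g : G, (g * y * g⁻¹) ^ n = 1 := fun g => by
    rw [conj_pow, hyn, mul_one, mul_inv_cancel]
  -- conjugates of `y` congruent to a power of `y`
  have hfix : ∀ (g : G) (e : G), e ^ n = 1 → e ∈ D → (g * y * g⁻¹ : G) * e⁻¹ ∈ Z →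
      g * y * g⁻¹ = e := by
    intro g e he heD hz
    have h1 : (g * y * g⁻¹ : G) * e⁻¹ ∈ Z ⊓ D :=
      mem_inf.2 ⟨hz, mul_mem (Subgroup.Normal.conj_mem inferInstance y hyD g) (inv_mem heD)⟩
    have h2 : ((g * y * g⁻¹ : G) * e⁻¹) ^ n = 1 := by
      have h3 : (g * y * g⁻¹ : G) = ((g * y * g⁻¹ : G) * e⁻¹) * e := by group
      have h4 := hyn' g
      rw [h3, (show Commute ((g * y * g⁻¹ : G) * e⁻¹) e from
        (Subgroup.mem_center_iff.1 (hZ hz) e).symm).mul_pow, he, mul_one] at h4
      exact h4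
    have h5 := hone _ h1 h2
    rw [mul_inv_eq_one] at h5
    exact h5
  have hyZ : y ∉ Z := by
    intro h
    apply hx1
    rw [← hyx]
    exact (QuotientGroup.eq_one_iff y).2 h
  have hyreal : IsConj y y⁻¹ := by
    obtain ⟨c, hc⟩ := isConj_iff.1 hreal
    obtain ⟨g, rfl⟩ := QuotientGroup.mk_surjective c
    refine isConj_iff.2 ⟨g, hfix g y⁻¹ (by rw [inv_pow, hyn, inv_one]) (inv_mem hyD) ?_⟩
    rw [← QuotientGroup.eq_one_iff, inv_inv, QuotientGroup.mk_mul, QuotientGroup.mk_mul,
      QuotientGroup.mk_mul, QuotientGroup.mk_inv, hyx, hc, inv_mul_cancel]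
  have hgood : ∀ z ∈ Z, IsConj (y * z) y → z = 1 := by
    intro z hz h
    obtain ⟨g, hg⟩ := isConj_iff.1 h
    have h1 : g * y * g⁻¹ = y * z⁻¹ := by
      have h2 := Subgroup.mem_center_iff.1 (hZ hz)
      calc g * y * g⁻¹ = (g * y * g⁻¹) * (z * z⁻¹) := by rw [mul_inv_cancel, mul_one]
        _ = (g * y * (g⁻¹ * z)) * z⁻¹ := by group
        _ = (g * y * (z * g⁻¹)) * z⁻¹ := by rw [h2 g⁻¹]
        _ = (g * (y * z) * g⁻¹) * z⁻¹ := by group
        _ = _ := by rw [hg]
    have h2 := hfix g y hyn hyD (by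
      rw [h1]
      have h3 := Subgroup.mem_center_iff.1 (inv_mem (hZ hz)) y
      rw [h3, mul_inv_cancel_right]
      exact inv_mem hz)
    rw [h1] at h2
    have h3 := mul_eq_left.1 h2
    exact inv_eq_one.1 h3
  have heven := parity hZ hZo hall hyZ hyreal hgood
  have hcent : centralizer ({y} : Set G) = (centralizer ({x} : Set (G ⧸ Z))).comap (QuotientGroup.mk' Z) := by
    ext g
    rw [mem_comap, mem_centralizer_singleton_iff, mem_centralizer_singleton_iff]
    show g * y = y * g ↔ (g : G ⧸ Z) * x = x * (g : G ⧸ Z)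
    constructor
    · intro h
      rw [← hyx, ← QuotientGroup.mk_mul, h, QuotientGroup.mk_mul]
    · intro h
      have h1 := hfix g y hyn hyD (by
        rw [← QuotientGroup.eq_one_iff, QuotientGroup.mk_mul, QuotientGroup.mk_mul,
          QuotientGroup.mk_mul, QuotientGroup.mk_inv, QuotientGroup.mk_inv, hyx, h,
          mul_inv_cancel_right, mul_inv_cancel])
      calc g * y = (g * y * g⁻¹) * g := by group
        _ = y * g := by rw [h1]
  rw [hcent, card_comap_mk] at heven
  exact Nat.not_even_iff_odd.2 (hZo.mul hodd) heven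

/-- The case `Z ∩ D = 1`. -/
theorem false_of_even [Finite G] {Z : Subgroup G} [hZn : Z.Normal] {l : Z →* ℂˣ}
    (hall : AllOdd Z l) {D : Subgroup G} [D.Normal]
    (hDZ : ∀ g : G, ∃ d ∈ D, (g : G ⧸ Z) = (d : G ⧸ Z)) (h1 : Z ⊓ D = ⊥)
    {ψ : G ⧸ Z → ℂ} (hψ : IsIrrCharacter (G ⧸ Z) ψ) (hev : Even (charDegree ψ)) : False := by
  -- `G ⧸ D ≃ Z`
  let f : Z →* G ⧸ D := (QuotientGroup.mk' D).comp Z.subtype
  have hf : Function.Bijective f := by
    constructor
    · rw [injective_iff_map_eq_one]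
      intro z hz
      have h2 : (z : G) ∈ D := (QuotientGroup.eq_one_iff _).1 hz
      have h3 : (z : G) ∈ Z ⊓ D := ⟨z.2, h2⟩
      rw [h1, mem_bot] at h3
      exact Subtype.ext h3
    · intro y
      obtain ⟨g, rfl⟩ := QuotientGroup.mk_surjective y
      obtain ⟨d, hd, hgd⟩ := hDZ g
      have h2 : g⁻¹ * d ∈ Z := QuotientGroup.eq.1 hgd
      refine ⟨⟨(g⁻¹ * d)⁻¹, inv_mem h2⟩, ?_⟩
      show (((g⁻¹ * d)⁻¹ : G) : G ⧸ D) = (g : G ⧸ D)
      rw [QuotientGroup.eq]
      have h3 : ((g⁻¹ * d)⁻¹)⁻¹ * g = g⁻¹ * d * g := by group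
      rw [h3]
      have := Subgroup.Normal.conj_mem (inferInstance : D.Normal) d hd g⁻¹
      rwa [inv_inv] at this
  let e : Z ≃* G ⧸ D := MulEquiv.ofBijective f hf
  let L : G →* ℂˣ := l.comp (e.symm.toMonoidHom.comp (QuotientGroup.mk' D))
  have hL : ∀ z : Z, L z = l z := by
    intro z
    show l (e.symm (e z)) = l z
    rw [e.symm_apply_apply]
  have hirr : IsIrrCharacter G (fun g => (ψ ∘ (QuotientGroup.mk' Z)) g * L g) :=
    Cfsg.Agent.CharactersDeep.ExtUnique.isIrr_mul_hom
      (isIrr_comp (QuotientGroup.mk' Z) (QuotientGroup.mk'_surjective Z) hψ) L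
  have hov : Ov Z l (fun g => (ψ ∘ (QuotientGroup.mk' Z)) g * L g) := by
    intro g z
    show ψ ((g * z : G) : G ⧸ Z) * L (g * z) = ψ (g : G ⧸ Z) * L g * l z
    have h2 : ((g * z : G) : G ⧸ Z) = (g : G ⧸ Z) := by
      rw [QuotientGroup.mk_mul_of_mem _ z.2]
    rw [h2, map_mul, hL]
    push_cast
    ring
  have h2 := hall _ hirr hov
  have h3 : charDegree (fun g => (ψ ∘ (QuotientGroup.mk' Z)) g * L g) = charDegree ψ := by
    refine charDegree_of_eq ?_
    show ψ ((1 : G) : G ⧸ Z) * (L 1 : ℂ) = _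
    rw [map_one, Units.val_one, mul_one, QuotientGroup.mk_one]
    exact irr_one_eq_charDegree hψ
  rw [h3] at h2
  exact Nat.not_even_iff_odd.2 h2 hev

theorem simple_case (hrows : RowsHyp.{u}) (him : IM2Hyp.{u}) [Finite G] {Z : Subgroup G}
    [hZn : Z.Normal] (hZ : Z ≤ center G) (hZo : Odd (Nat.card Z)) {l : Z →* ℂˣ} (hall : AllOdd Z l)
    [hs : IsSimpleGroup (G ⧸ Z)] (hna : ¬ IsMulCommutative (G ⧸ Z)) : False := by
  let D : Subgroup G := commutator G
  have hDn : D.Normal := inferInstance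
  -- `D` covers `G ⧸ Z`
  have hmap : D.map (QuotientGroup.mk' Z) = ⊤ := by
    have h1 : (D.map (QuotientGroup.mk' Z)).Normal := hDn.map _ (QuotientGroup.mk'_surjective Z)
    rcases hs.eq_bot_or_eq_top_of_normal _ h1 with h | h
    · exfalso
      apply hna
      refine ⟨⟨fun a b => ?_⟩⟩
      obtain ⟨x, rfl⟩ := QuotientGroup.mk_surjective a
      obtain ⟨y, rfl⟩ := QuotientGroup.mk_surjective b
      have h2 : (QuotientGroup.mk' Z) ⁅x, y⁆ ∈ D.map (QuotientGroup.mk' Z) :=
        ⟨_, Subgroup.commutator_mem_commutator (mem_top x) (mem_top y), rfl⟩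
      rw [h, mem_bot, map_commutatorElement, commutatorElement_eq_one_iff_mul_comm] at h2
      exact h2
    · exact h
  have hDZ : ∀ g : G, ∃ d ∈ D, (g : G ⧸ Z) = (d : G ⧸ Z) := by
    intro g
    have h1 : (g : G ⧸ Z) ∈ D.map (QuotientGroup.mk' Z) := by rw [hmap]; trivial
    obtain ⟨d, hd, h2⟩ := h1
    exact ⟨d, hd, h2.symm⟩
  obtain ⟨ψ, hψ, hev⟩ := him (G ⧸ Z) hna
  have hS : Even (Nat.card (G ⧸ Z)) := by
    obtain ⟨c, hc⟩ := Cfsg.Agent.H669.Basic.charDegree_dvd_card hψ
    rw [hc]
    exact hev.mul_right _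
  by_cases h1 : Z ⊓ D = ⊥
  · exact false_of_even hall hDZ h1 hψ hev
  · -- the stem extension `D → G ⧸ Z`
    let σ : D →* G ⧸ Z := (QuotientGroup.mk' Z).comp D.subtype
    have hker : ∀ d : D, d ∈ σ.ker ↔ (d : G) ∈ Z := fun d => QuotientGroup.eq_one_iff _
    have hperf : ∀ d : G, d ∈ D → ∃ h : d ∈ D, (⟨d, h⟩ : D) ∈ commutator D := by
      intro d hd
      refine ⟨hd, ?_⟩
      -- `D = [D, D]`
      have h2 : D ≤ (commutator D).map D.subtype := by
        show ⁅(⊤ : Subgroup G), ⊤⁆ ≤ _
        rw [Subgroup.commutator_le]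
        intro a _ b _
        obtain ⟨a', ha', haa⟩ := hDZ a
        obtain ⟨b', hb', hbb⟩ := hDZ b
        have h3 : a⁻¹ * a' ∈ Z := QuotientGroup.eq.1 haa
        have h4 : b⁻¹ * b' ∈ Z := QuotientGroup.eq.1 hbb
        have h5 : ⁅a, b⁆ = ⁅a', b'⁆ := by
          have ha : a' = a * (a⁻¹ * a') := by group
          have hb : b' = b * (b⁻¹ * b') := by group
          have h6 := Subgroup.mem_center_iff.1 (hZ h3)
          have h7 := Subgroup.mem_center_iff.1 (hZ h4)
          rw [ha, hb]
          generalize a⁻¹ * a' = z at *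
          generalize b⁻¹ * b' = w at *
          simp only [commutatorElement_def]
          calc a * b * a⁻¹ * b⁻¹ = a * b * (z * z⁻¹) * a⁻¹ * (w * w⁻¹) * b⁻¹ := by
                rw [mul_inv_cancel, mul_inv_cancel, mul_one, mul_one]
            _ = a * (b * z) * (z⁻¹ * a⁻¹) * w * (w⁻¹ * b⁻¹) := by group
            _ = a * (z * b) * (z⁻¹ * a⁻¹) * w * (w⁻¹ * b⁻¹) := by rw [h6 b]
            _ = (a * z * b) * ((z⁻¹ * a⁻¹) * w) * (w⁻¹ * b⁻¹) := by group
            _ = (a * z * b) * (w * (z⁻¹ * a⁻¹)) * (w⁻¹ * b⁻¹) := by rw [h7]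
            _ = a * z * (b * w) * (a * z)⁻¹ * (b * w)⁻¹ := by group
        rw [h5]
        exact ⟨⁅⟨a', ha'⟩, ⟨b', hb'⟩⁆, Subgroup.commutator_mem_commutator (mem_top _) (mem_top _),
          rfl⟩
      obtain ⟨y, hy, hyd⟩ := h2 hd
      have : y = ⟨d, hd⟩ := Subtype.ext hyd
      rwa [← this]
    have hstem : IsStemExtension σ := by
      refine ⟨?_, ?_, ?_⟩
      · intro y
        obtain ⟨g, rfl⟩ := QuotientGroup.mk_surjective y
        obtain ⟨d, hd, h2⟩ := hDZ g
        exact ⟨⟨d, hd⟩, h2.symm⟩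
      · intro d hd
        rw [mem_center_iff]
        intro g
        exact Subtype.ext (mem_center_iff.1 (hZ ((hker d).1 hd)) g)
      · intro d _
        obtain ⟨_, h2⟩ := hperf d d.2
        exact h2
    have hcard : Nat.card σ.ker = Nat.card (Z ⊓ D : Subgroup G) := by
      refine Nat.card_congr ⟨fun d => ⟨(d : D), (hker d).1 d.2, (d : D).2⟩,
        fun z => ⟨⟨z, z.2.2⟩, (hker _).2 z.2.1⟩, fun d => rfl, fun z => rfl⟩
    have hdvd : Nat.card (Z ⊓ D : Subgroup G) ∣ Nat.card Z :=
      Subgroup.card_dvd_of_le inf_le_left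
    have hodd : Odd (Nat.card σ.ker) := by
      rw [hcard]
      exact hZo.of_dvd_nat hdvd
    have hne : Nat.card σ.ker ≠ 1 := by
      rw [hcard]
      exact fun h => h1 (Subgroup.card_eq_one.1 h)
    obtain ⟨x, hx1, hx2, hx3⟩ := hrows (G ⧸ Z) D σ hna hstem hodd hne
    rw [hcard] at hx1
    refine false_of_roc hZ hZo hall hDZ ?_ hx1 hx2 hx3
    rintro rfl
    have h2 : centralizer ({(1 : G ⧸ Z)} : Set (G ⧸ Z)) = ⊤ := by
      rw [eq_top_iff]
      intro g _
      rw [mem_centralizer_singleton_iff, mul_one, one_mul]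
    rw [h2, Subgroup.card_top] at hx3
    exact Nat.not_even_iff_odd.2 hx3 hS

end Cfsg.Agent.H692.Rel
end

-- part: H30/RocSpor
section
prune_inst 0x100800000000000000000000000000010000000
set_option linter.all false
open scoped Cfsg.Agent.FastGrp

-- part: H30/RocON
section
/-!
# `O'N`: a real element of order 11 (helper30)

The word was found by computer; it is checked in the 45-dimensional representation of the triple cover.
-/

set_option autoImplicit false
set_option maxRecDepth 100000

namespace Cfsg.Agent.H30.RocON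

open Cfsg.Spor (ON)
open Cfsg.Spor.ON (Gen)
open Cfsg.Agent.Lib.PackMat Cfsg.Agent.SporadicB.ON45Data Cfsg.Agent.SporadicB.ON45Rels
  Cfsg.Agent.SporadicB.ON45Word Cfsg.Agent.SporadicB.ONHom
open Cfsg.Agent.KFacts.MulSpor.ON
open Cfsg.Agent.KFacts.ON.Cent (hON finite_ON)

theorem hs : IsSimpleGroup ON := hON.1

def u : List Gen := [.c, .d, .c, .d, .b, .g, .c, .e, .d, .a]

/-- the word of the element of order 11 -/
def l : List Gen := [.d] ++ (u ++ ([.c] ++ iw u))

/-- its matrix -/
def gx : ℕ := 0x6004014008050080180180300401401005002008028030040180300600a00c02800004014030030000180000500c0180000400a0040180300a00c0180400c01002000004000000010000100000100c01802804002018018020080040200400a0000180500a018008000000040080200a0180280300a01802005004010008060080100300300800c0100400a000010040060140080600600000806006008008060080140080100200403003008010030060040140000600401001803002004010050000180180500201400806008008028050040140080100800001800002008000020000140180200a0000200400c0100200500400803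00400800c0100200a00c018030020100080100000c000000000100280400a0180000100600c0100600a018010040060140280000001401805002008000050020080000200400000004006004030050000000080600a010000030060080000500a0000180300800c0100200201001804008004008000000140000300c0000280100a00c00003002000028050060080280300c00c0000600a0080280100c008030060080100200100200c000050040100000100c0140200500000c0100000800800800008018030010060140080300a004008030000140200300c010028030020040000400c0040080400c01802802006018010040080000300000000c0000100000c0100100c01002804006014008000060000300400601001802002004020060000080100500a004000040020080280400c01001003006010010030080000200200a010010030000040000600a0040300400c004028030060100200300c01400001008000018060080000200200000c0200200200800800008018020030000000100000001401005006000008040020000280000a0080180600a00800806006018010060000000100000a0100180000c00801803004014008020000040280600a00c0100400601002804006004008030060040200500000c02806008008030010000180100000a018020050000140300600c01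40200100c0100000000600c0280000c01000006004018008020060180200300200c000040040180000400600c0280000200c0300400000401804006000018040060080280200800800002000018000030080000300300c00401005002018020050060140000600a0000200600600c0280600600801002006014008000000000280500c004008000000100280100001803001006014000050020180180500600400800004000018010040180300400201001805004008018050040040100500c01003000006004028010040040280600a010030010000040080300600c010030080080100200a00c008060040180180100600401804002008020010020000300100c0180100100200400803002018008040060140180000c00802800000010028020020040180000600c03006002008030060060000300600000c0300500c00c02002008008028000040040100200000400804008018000050080100200600401800805006004000050020140180600a018018040000000180500001402000004000000040080100200000a0080000600c0040180400200800002006018010000020180000200001800800006018000000040040200500c0040200300600002000000008018040000040080000a0140180000400001806000018018030000000300600a00400804004004000060040140080200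400c02806000008000020060180300600600c028060000180080400a014008030080080000400a004008020020040000200201802803008018000050080140300600200c028030080040280100600c03000000014018020040000300300a0040100200a004020050040180000200400c0080600a0140080400c0080000100401401004008000028010040100300100c0180180200a0080300400a004010060000040000500c01400006004018020040000100100400c018010020060180100600200c000050000100200500400c0180100601001004002004000050080000200000a004010050060040100400001002801008014010030080180080400600c0080200c0000100600c0080100200a0140180300a014028030020100000000200401002000008020020060000000400a0100300300c0000100600800003000008004030010060140180500201001803006008000010080140280400a00c0080000600c018050040080100100200002802000018008010080100100200600003003004000030040060140100600800c0180200600c03000002010018060020180000600600c0300400c0180000200600801803008004010010020040100300a0000000300c0000280000a000000040020180180000200c0100400601803000002000020050060000080100c0040180400200c0000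300c008030060060140100100c010010040020100180600a018018050060140080000400c02803002014030030080140180400c0100080200c000008060080140000600a0140300300200403000002008020010000040180200200c008010000180280200a018018040060040300400c0100280500401801800006014000030020180300000000002005002008030060020140000600000c01804004014010010080140200600400001003000008020020060100300400c0080080200a008010010000140000300c00c008020040180000200600c00003002004008020040180100200400c0000100c00c0100200a00c01804000014010000020140280600000001004002018010050000080100600a01802006000010028010020040300500000c0080400a0080280200a01002001008004030010080100000300c0080100500a0080080200201002805004008000020020080280300a0000300100a01800802008014000000040140280600a0080100300800801004006014028050000140000600000c0280100800c028060020000100200c014000020040000200300a014020020060140300600a01400805006004018030020040100200a00c018000060140300600c0080300500a0100100300a00c0000300a00c0000600c00000003002004000010080100200200800c020020060100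0004002014000060020100200600000c010020020000180000a01802802006018028050080140000200a00400804002010010020000000000100a000018020040140000300200000004008000020000000100300600a0040100500c00c00801000008010020000040280600200401002004018020010040100100100a0100080500400c02004004004008030060080080400400400806008004030010060040180600c008030040020000100400c004000020080000080000a00c0100500c01800002008000028030040100080500a018028020000000100200601401804000018000010000040300000c008030030080080300400a01400805000008018050040080300600600c020040040000100300a0000200600a010008050040180180100c0080100200600c000000000080300200600c0080600a00402001008010010030080080100600800c0100200a0100100000c0140100000a000010040060000280100a008018060000140200400200c028010060100180600c00001005006018008050080100200300a01402803000014020030060080300500000c010010000000200500a010010050080040200100a004028040000000300300600803006004014018050000180080500c000010000060040200000c0100100500c01802806004000020000040000080500c00800804008004028000080100180500c00003002006010018040020180080600c004030010020000280300c01802002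

/-- the second involution -/
def y : ON := w u * w [.c] * (w u)⁻¹

theorem w_l : w l = w [.d] * y := by
  unfold l y
  rw [w_append, w_append, w_append, w_iw hs, mul_assoc]

theorem dd : w [.d] * w [.d] = 1 := by
  rw [← w_append]; exact r_d hs

theorem cc : w [.c] * w [.c] = 1 := by
  rw [← w_append]; exact r_c hs

theorem yy : y * y = 1 := by
  unfold y
  calc w u * w [.c] * (w u)⁻¹ * (w u * w [.c] * (w u)⁻¹) = w u * (w [.c] * w [.c]) * (w u)⁻¹ := by group
    _ = 1 := by rw [cc]; group

theorem ne_one : w l ≠ 1 := by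
  have h1 : LW (w l) (mats l) := LW.word l
  have h2 : LW (w l) [gx] := h1.change (by decide +kernel) (by decide +kernel)
  exact h2.ne_one 0 1 (by decide) (by decide +kernel)

def l11 : List Gen := l ++ (l ++ (l ++ (l ++ (l ++ (l ++ (l ++ (l ++ (l ++ (l ++ l)))))))))

theorem pow_eleven : w l ^ 11 = 1 := by
  have h1 : w l11 = 1 := rel hs _ (by decide +kernel)
  rw [← h1]
  unfold l11
  simp only [w_append]
  simp only [pow_succ, pow_zero, one_mul, mul_assoc]

theorem hasReal : Cfsg.Agent.H722.RealP.HasReal 11 ON := by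
  refine Cfsg.Agent.H661.Spor.HasReal_of_dihedral (by norm_num) dd yy ?_ ?_
  · rw [← w_l]; exact pow_eleven
  · rw [← w_l]; exact ne_one

end Cfsg.Agent.H30.RocON
end

-- part: H30/RocSpor
section
/-!
# Real elements of order prime to 3 with centralizer of odd order (helper30, for S4986, REL-4)

`ROC S 3` for `S = A₆, A₇, M₂₂, McL, Suz, Fi₂₂, Fi₂₄', O'N, J₃`.
-/

set_option autoImplicit false
set_option maxRecDepth 100000

namespace Cfsg.Agent.H30.RocSpor

open Cfsg Cfsg.Agent.H692.Rel Cfsg.Agent.H101.RO Cfsg.Agent.H722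
open Subgroup

universe u v

/-! ### Tools -/

/-- the order-keeping version of `RealOdd.of_sylow` -/
theorem roc_of_sylow {S : Type*} [Group S] [Finite S] {p m d : ℕ} (hp : p.Prime) (hp2 : p ≠ 2)
    (hd : ¬ p ∣ d) (hm : Nat.card S = p * m)
    (hpm : ¬ p ∣ m) (hmod : 2 ∣ m % p)
    (hC : ∀ x : S, orderOf x = p → Nat.card ↥(Subgroup.centralizer ({x} : Set S)) = p) : ROC S d := by
  have : Fact p.Prime := ⟨hp⟩
  obtain ⟨x, hx⟩ := exists_prime_orderOf_dvd_card' p (show p ∣ Nat.card S from ⟨m, hm⟩)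
  have hodd : Odd (Nat.card ↥(Subgroup.centralizer ({x} : Set S))) := by
    rw [hC x hx]; exact hp.odd_of_ne_two hp2
  -- `N(⟨x⟩)` has even order
  have hN : 2 ∣ Nat.card ↥(Subgroup.normalizer ((Subgroup.zpowers x : Subgroup S) : Set S)) := by
    have hm0 : m ≠ 0 := by
      rintro rfl
      exact hpm (dvd_zero p)
    have hcardx : Nat.card ↥(Subgroup.zpowers x) = p := by rw [Nat.card_zpowers, hx]
    have hfac : (Nat.card S).factorization p = 1 := by
      rw [hm, Nat.factorization_mul hp.ne_zero hm0, Finsupp.add_apply, hp.factorization_self,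
        Nat.factorization_eq_zero_of_not_dvd hpm]
    let P : Sylow p S := Sylow.ofCard (Subgroup.zpowers x) (by rw [hcardx, hfac, pow_one])
    set N : Subgroup S := Subgroup.normalizer ((Subgroup.zpowers x : Subgroup S) : Set S) with hNdef
    have h1 : Nat.card (Sylow p S) ≡ 1 [MOD p] := card_sylow_modEq_one p S
    have h2 : Nat.card (Sylow p S) = N.index := by
      rw [P.card_eq_index_normalizer]; rfl
    have h3 : Nat.card ↥N * N.index = p * m := by rw [← hm]; exact N.card_mul_index
    let C : Subgroup S := Subgroup.centralizer ((Subgroup.zpowers x : Subgroup S) : Set S)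
    have hCx : C = Subgroup.centralizer ({x} : Set S) := by
      show Subgroup.centralizer ((Subgroup.zpowers x : Subgroup S) : Set S) = _
      rw [Subgroup.zpowers_eq_closure, Subgroup.centralizer_closure]
    have hcardC : Nat.card ↥C = p := by rw [hCx, hC x hx]
    have hinj := Subgroup.normalizerMonoidHom_ker (Subgroup.zpowers x)
    have hdvd : ∃ e, Nat.card ↥N = p * e ∧ e ∣ p - 1 := by
      have h4 : Nat.card ↥N = Nat.card ↥((Subgroup.zpowers x).normalizerMonoidHom.ker) *
          Nat.card ↥((Subgroup.zpowers x).normalizerMonoidHom.range) := by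
        rw [← Subgroup.index_ker, mul_comm]
        exact ((Subgroup.zpowers x).normalizerMonoidHom.ker.index_mul_card).symm
      have h5 : Nat.card ↥((Subgroup.zpowers x).normalizerMonoidHom.ker) = p := by
        rw [hinj]
        have hle : C ≤ N := by
          intro c hc
          rw [hNdef]
          exact Subgroup.centralizer_le_normalizer _ hc
        have h6 : Nat.card ↥(C.subgroupOf N) = Nat.card ↥C := by
          exact Nat.card_congr (Subgroup.subgroupOfEquivOfLe hle).toEquiv
        exact h6.trans hcardC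
      have h6 : Nat.card ↥((Subgroup.zpowers x).normalizerMonoidHom.range) ∣ p - 1 := by
        have h7 := Subgroup.card_subgroup_dvd_card (Subgroup.zpowers x).normalizerMonoidHom.range
        have h8 : Nat.card (MulAut ↥(Subgroup.zpowers x)) = p - 1 := by
          rw [IsCyclic.card_mulAut, hcardx, Nat.totient_prime hp]
        rwa [h8] at h7
      exact ⟨_, by rw [h4, h5], h6⟩
    obtain ⟨e, he, hed⟩ := hdvd
    have h4 : e * N.index = m := by
      have : p * (e * N.index) = p * m := by rw [← h3, he]; ring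
      exact Nat.eq_of_mul_eq_mul_left hp.pos this
    have h5 : m ≡ e [MOD p] := by
      rw [← h4]
      have h6 : N.index ≡ 1 [MOD p] := by rw [← h2]; exact h1
      simpa using (Nat.ModEq.refl e).mul h6
    have hep : e < p := by
      have := Nat.le_of_dvd (by have := hp.one_lt; omega) hed
      have := hp.one_lt
      omega
    have h6 : m % p = e := by
      have : m % p = e % p := h5
      rw [this, Nat.mod_eq_of_lt hep]
    rw [he]
    exact (h6 ▸ hmod).mul_left p
  obtain ⟨y, -, hy⟩ := exists_inv_of_even (k := 1) hp hp2 (by rw [hx, pow_one]) hN hodd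
  exact ROC.mk (k := 1) hp hd (by rw [hx, pow_one]) (isConj_iff.2 ⟨y, hy⟩) hodd

/-- a real element of prime order `p`, `p` prime to the orders of the centralizers of the involutions -/
theorem roc_of_not_dvd {S : Type*} [Group S] [Finite S] {p d : ℕ} (hp : p.Prime) (hd : ¬ p ∣ d) {x : S}
    (hx : orderOf x = p) (hr : IsConj x x⁻¹)
    (hc : ∀ t : S, orderOf t = 2 → ¬ p ∣ Nat.card ↥(Subgroup.centralizer ({t} : Set S))) : ROC S d := by
  refine ROC.mk (k := 1) hp hd (by rw [hx, pow_one]) hr (odd_centralizer fun t ht h => hc t ht ?_)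
  have h1 : x ∈ Subgroup.centralizer ({t} : Set S) := Subgroup.mem_centralizer_singleton_iff.2 h.symm
  rw [← hx, ← Subgroup.orderOf_mk x h1]
  exact orderOf_dvd_natCard _

/-! ### `A₆`, `A₇` -/

section Alt

open Equiv

theorem card_cent_cycle {n : ℕ} {x : Perm (Fin n)} (h : x.cycleType = {5}) (_hn : 5 ≤ n) :
    Nat.card (centralizer ({x} : Set (Perm (Fin n)))) = (n - 5).factorial * 5 := by
  rw [Equiv.Perm.nat_card_centralizer, h, Fintype.card_fin]
  simp

/-- the centralizer in the alternating group -/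
theorem card_alt_dvd {n : ℕ} (x : alternatingGroup (Fin n)) :
    Nat.card (centralizer ({x} : Set (alternatingGroup (Fin n)))) ∣
      Nat.card (centralizer ({(x : Perm (Fin n))} : Set (Perm (Fin n)))) := by
  let f : ↥(centralizer ({x} : Set (alternatingGroup (Fin n)))) →*
      ↥(centralizer ({(x : Perm (Fin n))} : Set (Perm (Fin n)))) :=
    ((alternatingGroup (Fin n)).subtype.comp
      (centralizer ({x} : Set (alternatingGroup (Fin n)))).subtype).codRestrict _ (by
        intro y
        rw [mem_centralizer_singleton_iff]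
        exact congrArg Subtype.val (mem_centralizer_singleton_iff.1 y.2))
  refine Subgroup.card_dvd_of_injective f ?_
  intro y z h
  have h1 := (Subtype.mk.injEq _ _ _ _).mp h
  exact Subtype.ext (Subtype.ext h1)

theorem card_alt_ne {n : ℕ} (x : alternatingGroup (Fin n)) {s : Perm (Fin n)} (hs : Perm.sign s = -1)
    (hsx : s * x = x * s) :
    Nat.card (centralizer ({x} : Set (alternatingGroup (Fin n)))) ≠
      Nat.card (centralizer ({(x : Perm (Fin n))} : Set (Perm (Fin n)))) := by
  intro hcard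
  let f : ↥(centralizer ({x} : Set (alternatingGroup (Fin n)))) →
      ↥(centralizer ({(x : Perm (Fin n))} : Set (Perm (Fin n)))) := fun y =>
    ⟨((y : alternatingGroup (Fin n)) : Perm (Fin n)), by
      rw [mem_centralizer_singleton_iff]
      exact congrArg Subtype.val (mem_centralizer_singleton_iff.1 y.2)⟩
  have hf : Function.Injective f := by
    intro y z h
    have h1 := (Subtype.mk.injEq _ _ _ _).mp h
    exact Subtype.ext (Subtype.ext h1)
  have hb : Function.Bijective f := (Nat.bijective_iff_injective_and_card f).2 ⟨hf, hcard⟩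
  obtain ⟨y, hy⟩ := hb.2 ⟨s, by rw [mem_centralizer_singleton_iff]; exact hsx⟩
  have h1 : ((y : alternatingGroup (Fin n)) : Perm (Fin n)) = s := congrArg Subtype.val hy
  have h2 : Perm.sign s = 1 := by rw [← h1]; exact (y : alternatingGroup (Fin n)).2
  rw [hs] at h2
  exact absurd h2 (by decide)

def x6 : Perm (Fin 6) := c[0, 1, 2, 3, 4]
def t6 : Perm (Fin 6) := swap 1 4 * swap 2 3
def x7 : Perm (Fin 7) := c[0, 1, 2, 3, 4]
def t7 : Perm (Fin 7) := swap 1 4 * swap 2 3

theorem conj6 : t6 * x6 * t6⁻¹ = x6⁻¹ := by decide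
theorem conj7 : t7 * x7 * t7⁻¹ = x7⁻¹ := by decide
theorem comm7 : swap 5 6 * x7 = x7 * swap 5 6 := by decide

theorem alt6 : ROC (alternatingGroup (Fin 6)) 3 := by
  have hx : x6 ∈ alternatingGroup (Fin 6) := by rw [Perm.mem_alternatingGroup]; decide
  have ht : t6 ∈ alternatingGroup (Fin 6) := by rw [Perm.mem_alternatingGroup]; decide
  have ho : orderOf x6 = 5 := orderOf_eq_prime (by decide) (by decide)
  have hct : x6.cycleType = {5} := by
    obtain ⟨n, hn⟩ := Equiv.Perm.cycleType_prime_order (σ := x6) (by rw [ho]; norm_num)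
    have hs := Equiv.Perm.sum_cycleType x6
    have hc : x6.support.card = 5 := by decide
    rw [hn, hc, ho] at hs
    simp at hs
    rw [hn, ho, hs]
    rfl
  refine ROC.mk (p := 5) (k := 1) (x := ⟨x6, hx⟩) (by norm_num) (by norm_num) ?_
    (isConj_iff.2 ⟨⟨t6, ht⟩, Subtype.ext conj6⟩) ?_
  · rw [Subgroup.orderOf_mk, ho]; rfl
  · have h1 := card_alt_dvd (⟨x6, hx⟩ : alternatingGroup (Fin 6))
    rw [card_cent_cycle hct (by norm_num)] at h1
    exact Odd.of_dvd_nat (by decide) h1

theorem alt7 : ROC (alternatingGroup (Fin 7)) 3 := by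
  have hx : x7 ∈ alternatingGroup (Fin 7) := by rw [Perm.mem_alternatingGroup]; decide
  have ht : t7 ∈ alternatingGroup (Fin 7) := by rw [Perm.mem_alternatingGroup]; decide
  have ho : orderOf x7 = 5 := orderOf_eq_prime (by decide) (by decide)
  have hct : x7.cycleType = {5} := by
    obtain ⟨n, hn⟩ := Equiv.Perm.cycleType_prime_order (σ := x7) (by rw [ho]; norm_num)
    have hs := Equiv.Perm.sum_cycleType x7
    have hc : x7.support.card = 5 := by decide
    rw [hn, hc, ho] at hs
    simp at hs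
    rw [hn, ho, hs]
    rfl
  refine ROC.mk (p := 5) (k := 1) (x := ⟨x7, hx⟩) (by norm_num) (by norm_num) ?_
    (isConj_iff.2 ⟨⟨t7, ht⟩, Subtype.ext conj7⟩) ?_
  · rw [Subgroup.orderOf_mk, ho]; rfl
  · have h1 := card_alt_dvd (⟨x7, hx⟩ : alternatingGroup (Fin 7))
    have h2 := card_alt_ne (⟨x7, hx⟩ : alternatingGroup (Fin 7)) (s := swap 5 6) (by decide) comm7
    have h3 : Nat.card (centralizer ({((⟨x7, hx⟩ : alternatingGroup (Fin 7)) : Perm (Fin 7))} :
        Set (Perm (Fin 7)))) = 10 := card_cent_cycle hct (by norm_num)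
    rw [h3] at h1 h2
    have h5 : 5 ∣ Nat.card (centralizer ({(⟨x7, hx⟩ : alternatingGroup (Fin 7))} :
        Set (alternatingGroup (Fin 7)))) := by
      have h6 : (⟨x7, hx⟩ : alternatingGroup (Fin 7)) ∈ centralizer ({(⟨x7, hx⟩ : alternatingGroup (Fin 7))} :
        Set (alternatingGroup (Fin 7))) := mem_centralizer_singleton_iff.2 rfl
      have h7 := orderOf_dvd_natCard (⟨_, h6⟩ : centralizer ({(⟨x7, hx⟩ : alternatingGroup (Fin 7))} :
        Set (alternatingGroup (Fin 7))))
      rwa [Subgroup.orderOf_mk, Subgroup.orderOf_mk, ho] at h7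
    generalize Nat.card (centralizer ({(⟨x7, hx⟩ : alternatingGroup (Fin 7))} :
        Set (alternatingGroup (Fin 7)))) = k at h1 h2 h5 ⊢
    obtain ⟨j, rfl⟩ := h5
    have h8 : j ∣ 2 := Nat.dvd_of_mul_dvd_mul_left (by norm_num : 0 < 5) h1
    rcases (Nat.dvd_prime Nat.prime_two).1 h8 with rfl | rfl
    · decide
    · exact absurd rfl h2

end Alt

/-! ### The sporadic groups -/

theorem m22 {S : Type u} [Group S] [Finite S] (h : Spor.IsoM22 S) : ROC S 3 := by
  obtain ⟨e⟩ := h
  have hs : IsSimpleGroup Spor.M22 := Cfsg.Agent.SporadicA.MathieuRecog.simple_M22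
  have hfin : Finite Spor.M22 := Finite.of_equiv S e.toEquiv
  have hc : Nat.card Spor.M22 = 443520 := NotCT.Orders.m22 ⟨MulEquiv.refl _⟩
  obtain ⟨x, hx, hr⟩ := (Cfsg.Agent.H661.Spor.hasReal_fermat (G := Spor.M22) (r := 5) (k := 2) (by norm_num)
    (by norm_num) (by rw [hc]; norm_num) (by rw [hc]; norm_num) (by rw [hc]; norm_num)).isConj
  refine ROC.congr e.symm (roc_of_not_dvd (by norm_num) (by norm_num) hx hr fun t ht => ?_)
  rw [Cfsg.Agent.H992.Stages.card_cent_m22 ht]
  norm_num

theorem mcl {S : Type u} [Group S] [Finite S] (h : Spor.IsoMcL S) : ROC S 3 := by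
  obtain ⟨y, hy, hr, ho⟩ := Cfsg.Agent.H661.Spor.mcl_data h
  exact ROC.mk (p := 5) (k := 1) (by norm_num) (by norm_num) (by rw [hy, pow_one]) hr ho

theorem suz {S : Type u} [Group S] [Finite S] (h : Spor.IsoSuz S) : ROC S 3 := by
  have hc := NotCT.Orders.suz h
  obtain ⟨e⟩ := h
  obtain ⟨x, hx, hxC⟩ := Cfsg.Agent.H474.Suz13.suz_thirteen
  have hfin : Finite Spor.Suz := Finite.of_equiv S e.toEquiv
  have : Fact (Nat.Prime 13) := ⟨by norm_num⟩
  have hc' : Nat.card Spor.Suz = 13 * 34488115200 := by rw [← Nat.card_congr e.toEquiv, hc]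
  refine ROC.congr e.symm (roc_of_sylow (p := 13) (m := 34488115200) (by norm_num) (by norm_num)
    (by norm_num) hc' (by norm_num) (by norm_num) fun y hy => ?_)
  -- the subgroups of order 13 are conjugate
  have hfac : (Nat.card Spor.Suz).factorization 13 = 1 := by
    rw [hc', Nat.factorization_mul (by norm_num) (by norm_num), Finsupp.add_apply,
      Nat.Prime.factorization_self (by norm_num), Nat.factorization_eq_zero_of_not_dvd (by norm_num)]
  let P : Sylow 13 Spor.Suz := Sylow.ofCard (zpowers x) (by rw [Nat.card_zpowers, hx, hfac, pow_one])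
  let Q : Sylow 13 Spor.Suz := Sylow.ofCard (zpowers y) (by rw [Nat.card_zpowers, hy, hfac, pow_one])
  obtain ⟨g, hg⟩ := MulAction.exists_smul_eq Spor.Suz P Q
  have hmem : g * x * g⁻¹ ∈ zpowers y := by
    have h1 : (Q : Subgroup Spor.Suz) = zpowers y := rfl
    rw [← h1, ← hg, Sylow.coe_subgroup_smul]
    exact ⟨x, mem_zpowers x, rfl⟩
  have hcz : ∀ a : Spor.Suz, centralizer (zpowers a : Set Spor.Suz) = centralizer ({a} : Set Spor.Suz) := by
    intro a
    rw [zpowers_eq_closure, centralizer_closure]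
  have hz : zpowers (g * x * g⁻¹) = zpowers y := by
    apply eq_of_le_of_card_ge
    · rw [zpowers_le]; exact hmem
    · have ho : orderOf (g * x * g⁻¹) = 13 := by
        rw [← hx]
        exact (MulAut.conj g).orderOf_eq x
      rw [Nat.card_zpowers, Nat.card_zpowers, hy, ho]
  have h1 : Nat.card (centralizer ({g * x * g⁻¹} : Set Spor.Suz)) = 13 := by
    rw [Cfsg.Agent.Blocks.SylowIn.card_centralizer_of_isConj (isConj_iff.2 ⟨g, rfl⟩ : IsConj x _), hxC]
  rw [← hcz, ← hz, hcz, h1]

theorem fi22 {S : Type u} [Group S] [Finite S] (h : Spor.IsoFi22 S) : ROC S 3 := by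
  have hc := NotCT.Orders.fi22 h
  obtain ⟨e⟩ := h
  exact roc_of_sylow (p := 13) (m := 4966288588800) (by norm_num) (by norm_num) (by norm_num)
    (by rw [hc]) (by norm_num) (by norm_num) fun y hy => Cfsg.Agent.H713.Spor.Fi22.cent_13 e hy

theorem fi24 {S : Type u} [Group S] [Finite S] (h : Spor.IsoFi24' S) : ROC S 3 := by
  obtain ⟨e⟩ := h
  obtain ⟨x, t, hx, hC, -, -, hinv⟩ := Cfsg.Agent.H30.IMFi24.exists_x
  exact ROC.congr e.symm (ROC.mk (p := 29) (k := 1) (by norm_num) (by norm_num) (by rw [hx, pow_one])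
    (isConj_iff.2 ⟨t, hinv⟩) (by rw [hC]; decide))

theorem on {S : Type u} [Group S] [Finite S] (h : Spor.IsoON S) : ROC S 3 := by
  obtain ⟨e⟩ := h
  have hfin : Finite Spor.ON := Finite.of_equiv S e.toEquiv
  obtain ⟨x, hx, hr⟩ := Cfsg.Agent.H30.RocON.hasReal.isConj
  refine ROC.congr e.symm (roc_of_not_dvd (by norm_num) (by norm_num) hx hr fun t ht => ?_)
  have h1 : t * t = 1 := by rw [← pow_two, ← ht, pow_orderOf_eq_one]
  have h2 : t ≠ 1 := by
    rintro rfl
    rw [orderOf_one] at ht
    omega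
  rw [← Cfsg.Agent.Blocks.SylowIn.card_centralizer_of_isConj
    (Cfsg.Agent.KFacts.ON.OneClass.one_class h1 h2), Cfsg.Agent.KFacts.ON.Cent.card_cent]
  norm_num

theorem j3 {S : Type u} [Group S] [Finite S] (h : Spor.IsoJ3 S) : ROC S 3 := by
  have hc := NotCT.Orders.j3 h
  exact roc_of_sylow (p := 17) (m := 2954880) (by norm_num) (by norm_num) (by norm_num)
    (by rw [hc]) (by norm_num) (by norm_num) fun y hy => (Cfsg.Agent.H898.J3Cent.seventeen h hy).1

end Cfsg.Agent.H30.RocSpor
end
end

-- part: H742/OddMultSpor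
section
set_option linter.all false
open scoped Cfsg.Agent.FastGrp

-- part: H742/OddMult
section
/-!
# Stem extensions with kernels of odd order: the case distinction (tasks 1083, S4985 and S4986)

* `OddCase S m`: the simple groups `S` with a stem extension whose kernel has odd order `m ≠ 1`;
* `ORow S`: every stem extension of `S` with a kernel of odd order `m ≠ 1` gives `OddCase S m`;
* `row_lie`: alternating, classical and exceptional groups.
-/

set_option autoImplicit false

universe u v w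

namespace Cfsg.Agent.H742.OddMult

open Cfsg

/-- The simple groups with a stem extension whose kernel has odd order `m ≠ 1`. -/
inductive OddCase (S : Type v) [Group S] (m : ℕ) : Prop
  | alt6 (e : Nonempty (S ≃* alternatingGroup (Fin 6))) (hm : m = 3)
  | alt7 (e : Nonempty (S ≃* alternatingGroup (Fin 7))) (hm : m = 3)
  | psl (F : Type) (_ : Field F) (_ : Fintype F) (n : ℕ) (hn : 3 ≤ n)
      (e : Nonempty (S ≃* Matrix.ProjectiveSpecialLinearGroup (Fin n) F)) (hm : m ∣ Nat.gcd n (Fintype.card F - 1))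
  | psu (F : Type) (_ : Field F) (_ : Fintype F) (n q : ℕ) (hF : Fintype.card F = q ^ 2) (hn : 3 ≤ n)
      (h32 : ¬ (n = 3 ∧ q = 2)) (e : Nonempty (S ≃* Cfsg.PSU n F q)) (hm : m ∣ Nat.gcd n (q + 1))
  | psu43 (F : Type) (_ : Field F) (_ : Fintype F) (hF : Fintype.card F = 3 ^ 2)
      (e : Nonempty (S ≃* Cfsg.PSU 4 F 3)) (hm : m ∣ 9)
  | o73 (F : Type) (_ : Field F) (_ : Fintype F) (hF : Fintype.card F = 3)
      (e : Nonempty (S ≃* Cfsg.POmega F (Cfsg.quadFormOdd 3 F))) (hm : m = 3)
  | g23 (F : Type) (_ : Field F) (_ : Fintype F) (hF : Fintype.card F = 3)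
      (e : Nonempty (S ≃* ↥(Cfsg.Lie.chevG2.group F))) (hm : m = 3)
  | e6 (F : Type) (_ : Field F) (_ : Fintype F) (h3 : 3 ∣ Fintype.card F - 1)
      (e : Nonempty (S ≃* ↥(Cfsg.Lie.chevE6.group F))) (hm : m = 3)
  | te6 (K : Type) (_ : Field K) (_ : Fintype K) (q : ℕ) (hq : IsPrimePow q) (hK : Fintype.card K = q ^ 2)
      (h3 : 3 ∣ q + 1) (e : Nonempty (S ≃* ↥(Cfsg.Lie.twistedE6 K q))) (hm : m = 3)
  | m22 (h : Spor.IsoM22 S) (hm : m = 3)
  | mcl (h : Spor.IsoMcL S) (hm : m = 3)
  | suz (h : Spor.IsoSuz S) (hm : m = 3)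
  | fi22 (h : Spor.IsoFi22 S) (hm : m = 3)
  | fi24 (h : Spor.IsoFi24' S) (hm : m = 3)
  | on (h : Spor.IsoON S) (hm : m = 3)
  | j3 (h : Spor.IsoJ3 S) (hm : m = 3)

/-- Kernels of odd order of the stem extensions of `T`, transported to `S`. -/
def TRow (S : Type v) [Group S] (T : Type w) [Group T] : Prop :=
  ∀ (Γ : Type u) [Group Γ] [Finite Γ] (σ : Γ →* T), Cfsg.IsStemExtension σ → Odd (Nat.card σ.ker) →
    Nat.card σ.ker ≠ 1 → OddCase S (Nat.card σ.ker)

/-- The kernels of odd order of the stem extensions of `S`. -/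
abbrev ORow (S : Type v) [Group S] : Prop := TRow.{u} S S

variable {S : Type v} [Group S]

theorem TRow.congr {T : Type w} [Group T] (e : S ≃* T) (h : TRow.{u} S T) : ORow.{u} S := by
  intro Γ _ _ σ hσ ho h1
  have hk : (e.toMonoidHom.comp σ).ker = σ.ker := by
    ext x
    rw [MonoidHom.mem_ker, MonoidHom.mem_ker, MonoidHom.comp_apply]
    exact map_eq_one_iff _ e.injective
  have h2 : Cfsg.IsStemExtension (e.toMonoidHom.comp σ) :=
    ⟨e.surjective.comp hσ.1, by rw [hk]; exact hσ.2.1, by rw [hk]; exact hσ.2.2⟩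
  have h3 := h Γ (e.toMonoidHom.comp σ) h2 (by rw [hk]; exact ho) (by rw [hk]; exact h1)
  rwa [hk] at h3

theorem TRow.of_mult {T : Type w} [Group T] {A : Type*} [CommGroup A] (hA : Cfsg.HasSchurMultiplier T A)
    (h : ∀ m, m ∣ Nat.card A → Odd m → m ≠ 1 → OddCase S m) : TRow.{u} S T := by
  intro Γ _ _ σ hσ ho h1
  obtain ⟨f, hf⟩ := H487.HasSchurMultiplier.exists_surj_ker hA hσ
  exact h _ (Subgroup.card_dvd_of_surjective f hf) ho h1

theorem TRow.of_cyclic {T : Type w} [Group T] {n : ℕ} (hA : Cfsg.HasCyclicSchurMultiplier T n)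
    (h : ∀ m, m ∣ n → Odd m → m ≠ 1 → OddCase S m) : TRow.{u} S T := by
  refine TRow.of_mult hA fun m hm => h m ?_
  rwa [Nat.card_congr (Multiplicative.toAdd (α := ZMod n)), Nat.card_zmod] at hm

theorem eq_one_of_dvd_two_pow {m k : ℕ} (h : m ∣ 2 ^ k) (ho : Odd m) : m = 1 := by
  obtain ⟨j, -, rfl⟩ := (Nat.dvd_prime_pow Nat.prime_two).1 h
  rcases Nat.eq_zero_or_pos j with rfl | hj
  · rfl
  · exact absurd ho (Nat.not_odd_iff_even.2 ((Nat.even_pow' hj.ne').2 even_two))

/-- The multiplier is a 2-group. -/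
theorem TRow.of_mult_two {T : Type w} [Group T] {A : Type*} [CommGroup A] (hA : Cfsg.HasSchurMultiplier T A)
    {k : ℕ} (h : Nat.card A ∣ 2 ^ k) : TRow.{u} S T :=
  TRow.of_mult hA fun _ hm ho h1 => absurd (eq_one_of_dvd_two_pow (hm.trans h) ho) h1

theorem TRow.of_two {T : Type w} [Group T] {n k : ℕ} (hA : Cfsg.HasCyclicSchurMultiplier T n)
    (h : n ∣ 2 ^ k) : TRow.{u} S T :=
  TRow.of_cyclic hA fun _ hm ho h1 => absurd (eq_one_of_dvd_two_pow (hm.trans h) ho) h1

theorem TRow.of_one {T : Type w} [Group T] (hA : Cfsg.HasCyclicSchurMultiplier T 1) : TRow.{u} S T :=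
  TRow.of_two (k := 0) hA (by norm_num)

/-- The multiplier has order dividing `2 ^ k * m`. -/
theorem TRow.of_mult_dvd {T : Type w} [Group T] {A : Type*} [CommGroup A] (hA : Cfsg.HasSchurMultiplier T A)
    {k m : ℕ} (h : Nat.card A ∣ 2 ^ k * m) (hr : ∀ d, d ∣ m → d ≠ 1 → OddCase S d) : TRow.{u} S T :=
  TRow.of_mult hA fun _ hm ho h1 =>
    hr _ ((Nat.Coprime.dvd_mul_left ((Nat.coprime_two_right.2 ho).pow_right k)).1 (hm.trans h)) h1

theorem TRow.of_cyclic_dvd {T : Type w} [Group T] {n : ℕ} (hA : Cfsg.HasCyclicSchurMultiplier T n)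
    {k m : ℕ} (h : n ∣ 2 ^ k * m) (hr : ∀ d, d ∣ m → d ≠ 1 → OddCase S d) : TRow.{u} S T := by
  refine TRow.of_mult_dvd (k := k) hA ?_ hr
  rwa [Nat.card_congr (Multiplicative.toAdd (α := ZMod n)), Nat.card_zmod]

theorem of_three {P : ℕ → Prop} (h : P 3) : ∀ d, d ∣ 3 → d ≠ 1 → P d := by
  intro d hd h1
  rcases (Nat.dvd_prime Nat.prime_three).1 hd with h2 | h2
  · exact absurd h2 h1
  · rw [h2]; exact h

/-! ### The alternating groups -/

theorem row_alt (n : ℕ) (hn : 4 ≤ n) (e : S ≃* alternatingGroup (Fin n)) : ORow.{u} S := by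
  by_cases h : n = 6 ∨ n = 7
  · have hA := S2116.result n h
    rcases h with rfl | rfl
    · exact TRow.congr e (TRow.of_cyclic_dvd (k := 1) (m := 3) hA (by norm_num) (of_three (.alt6 ⟨e⟩ rfl)))
    · exact TRow.congr e (TRow.of_cyclic_dvd (k := 1) (m := 3) hA (by norm_num) (of_three (.alt7 ⟨e⟩ rfl)))
  · rw [not_or] at h
    refine TRow.congr e ?_
    intro Γ _ _ σ hσ ho h1
    exfalso
    have h2 := S0892.result n hn h.1 h.2 σ.ker hσ.2.1 hσ.2.2 (QuotientGroup.quotientKerEquivOfSurjective σ hσ.1)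
    have h3 : 0 < Nat.card σ.ker := Nat.card_pos
    have h4 : Nat.card σ.ker = 2 := by omega
    rw [h4] at ho
    exact absurd ho (by decide)

/-! ### The classical groups -/

theorem row_psl {F : Type} [iF : Field F] [iF' : Fintype F] (n : ℕ) (hn : 2 ≤ n) (h2 : n = 2 → 4 ≤ Fintype.card F)
    (e : S ≃* Matrix.ProjectiveSpecialLinearGroup (Fin n) F) : ORow.{u} S := by
  by_cases hexc : (n, Fintype.card F) ∈ ({(2, 4), (2, 9), (3, 2), (3, 4), (4, 2)} : Set (ℕ × ℕ))
  · simp only [Set.mem_insert_iff, Set.mem_singleton_iff, Prod.mk.injEq] at hexc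
    rcases hexc with ⟨rfl, hq⟩ | ⟨rfl, hq⟩ | ⟨rfl, hq⟩ | ⟨rfl, hq⟩ | ⟨rfl, hq⟩
    · obtain ⟨e'⟩ := S0252.result hq
      exact row_alt 5 (by norm_num) (e.trans e')
    · obtain ⟨e'⟩ := S0254.result hq
      exact row_alt 6 (by norm_num) (e.trans e')
    · exact TRow.congr e (TRow.of_two (k := 1) (S2087.result hq) (by norm_num))
    · refine TRow.congr e (TRow.of_mult_dvd (k := 4) (m := 3) (S2088.result hq)
        (by simp [Nat.card_zmod]) fun d hd _ => .psl F iF iF' 3 le_rfl ⟨e⟩ ?_)
      rw [hq]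
      exact hd
    · obtain ⟨e'⟩ := S0256.result hq
      exact row_alt 8 (by norm_num) (e.trans e')
  · have hA := S2086.result (F := F) rfl n hn h2 hexc
    rcases Nat.lt_or_ge n 3 with h3 | h3
    · obtain rfl : n = 2 := by omega
      exact TRow.congr e (TRow.of_two (k := 1) hA (Nat.gcd_dvd_left _ _))
    · exact TRow.congr e (TRow.of_cyclic_dvd (k := 0) hA (by rw [pow_zero, one_mul]) fun d hd _ =>
        .psl F iF iF' n h3 ⟨e⟩ hd)

theorem row_psu {F : Type} [iF : Field F] [iF' : Fintype F] (n q : ℕ) (hF : Fintype.card F = q ^ 2) (hn : 3 ≤ n)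
    (h32 : ¬ (n = 3 ∧ q = 2)) (e : S ≃* Cfsg.PSU n F q) : ORow.{u} S := by
  by_cases hexc : (n, q) ∈ ({(4, 2), (4, 3), (6, 2)} : Set (ℕ × ℕ))
  · simp only [Set.mem_insert_iff, Set.mem_singleton_iff, Prod.mk.injEq] at hexc
    rcases hexc with ⟨rfl, rfl⟩ | ⟨rfl, rfl⟩ | ⟨rfl, rfl⟩
    · have hK : Fintype.card (ZMod 3) = 3 := ZMod.card 3
      obtain ⟨e'⟩ := S0822.result (F := F) (K := ZMod 3) (by rw [hF]; norm_num) hK
      exact TRow.congr (e.trans e') (TRow.of_two (k := 1) (S2092.result hK 2 le_rfl (fun _ => le_rfl) (by omega))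
        (Nat.gcd_dvd_left _ _))
    · exact TRow.congr e (TRow.of_mult_dvd (k := 2) (m := 9) (S2090.result (by rw [hF]; norm_num))
        (by simp [Nat.card_zmod]) fun d hd _ => .psu43 F iF iF' hF ⟨e⟩ hd)
    · exact TRow.congr e (TRow.of_mult_dvd (k := 2) (m := 3) (S2091.result (by rw [hF]; norm_num))
        (by simp [Nat.card_zmod]) fun d hd _ => .psu F iF iF' 6 2 hF hn h32 ⟨e⟩ hd)
  · exact TRow.congr e (TRow.of_cyclic_dvd (k := 0) (S2089.result n q hF hn h32 hexc) (by rw [pow_zero, one_mul])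
      fun d hd _ => .psu F iF iF' n q hF hn h32 ⟨e⟩ hd)

theorem row_psp {F : Type} [Field F] [Fintype F] (m : ℕ) (hm : 2 ≤ m) (h2 : m = 2 → 3 ≤ Fintype.card F) :
    TRow.{u} S (Cfsg.PSp m F) := by
  by_cases hexc : m = 3 ∧ Fintype.card F = 2
  · obtain ⟨rfl, hq⟩ := hexc
    exact TRow.of_two (k := 1) (S2093.result hq) (by norm_num)
  · exact TRow.of_two (k := 1) (S2092.result rfl m hm h2 hexc) (Nat.gcd_dvd_left _ _)

theorem row_omOdd {F : Type} [iF : Field F] [iF' : Fintype F] (m : ℕ) (hm : 3 ≤ m) (ho : Odd (Fintype.card F))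
    (e : S ≃* Cfsg.POmega F (Cfsg.quadFormOdd m F)) : ORow.{u} S := by
  by_cases hexc : m = 3 ∧ Fintype.card F = 3
  · obtain ⟨rfl, hq⟩ := hexc
    exact TRow.congr e (TRow.of_cyclic_dvd (k := 1) (m := 3) (S2095.result hq) (by norm_num)
      (of_three (.o73 F iF iF' hq ⟨e⟩ rfl)))
  · exact TRow.congr e (TRow.of_two (k := 1) (S2094.result rfl ho m hm hexc) (by norm_num))

theorem row_omPlus {F : Type} [Field F] [Fintype F] (m : ℕ) (hm : 4 ≤ m) :
    TRow.{u} S (Cfsg.POmega F (Cfsg.quadFormPlus m F)) := by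
  rcases Nat.even_or_odd m with he | ho
  · by_cases hexc : m = 4 ∧ Fintype.card F = 2
    · obtain ⟨rfl, hq⟩ := hexc
      exact TRow.of_mult_two (k := 2) (S2098.result hq) (by simp [Nat.card_zmod])
    · refine TRow.of_mult_two (k := 2) (S2097.result rfl m hm he hexc) ?_
      rw [Nat.card_congr Multiplicative.toAdd, Nat.card_prod, Nat.card_zmod]
      exact mul_dvd_mul (Nat.gcd_dvd_left _ _) (Nat.gcd_dvd_left _ _)
  · exact TRow.of_two (k := 2) (S2096.result rfl m (by rcases ho with ⟨k, hk⟩; omega) ho) (Nat.gcd_dvd_left _ _)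

theorem row_omMinus {F : Type} [Field F] [Fintype F] (m : ℕ) (hm : 4 ≤ m)
    (a b : F) (hab : ∀ z₁ z₂ : F, z₁ ^ 2 + a * z₁ * z₂ + b * z₂ ^ 2 = 0 → z₁ = 0 ∧ z₂ = 0) :
    TRow.{u} S (Cfsg.POmega F (Cfsg.quadFormMinus (m - 1) F a b)) :=
  TRow.of_two (k := 2) (S2099.result rfl m hm a b hab) (Nat.gcd_dvd_left _ _)

/-! ### The exceptional groups -/

theorem row_g2 {F : Type} [iF : Field F] [iF' : Fintype F] (h3 : 3 ≤ Fintype.card F)
    (e : S ≃* ↥(Cfsg.Lie.chevG2.group F)) : ORow.{u} S := by
  rcases Nat.lt_or_ge (Fintype.card F) 5 with h5 | h5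
  · obtain h | h : Fintype.card F = 3 ∨ Fintype.card F = 4 := by omega
    · exact TRow.congr e (TRow.of_cyclic_dvd (k := 0) (m := 3) (S2101.result h) (by norm_num)
        (of_three (.g23 F iF iF' h ⟨e⟩ rfl)))
    · exact TRow.congr e (TRow.of_mult_two (k := 1) (S2102.result h) (by simp [Nat.card_zmod]))
  · exact TRow.congr e (TRow.of_one (S2100.result h5))

theorem row_f4 {F : Type} [Field F] [Fintype F] : TRow.{u} S ↥(Cfsg.Lie.chevF4.group F) := by
  rcases Nat.lt_or_ge (Fintype.card F) 3 with h5 | h5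
  · have h1 : 1 < Fintype.card F := Fintype.one_lt_card
    have h : Fintype.card F = 2 := by omega
    exact TRow.of_two (k := 1) (S2104.result h) (by norm_num)
  · exact TRow.of_one (S2103.result h5)

theorem eq_three {d m : ℕ} (h : d ∣ Nat.gcd 3 m) (h1 : d ≠ 1) : d = 3 ∧ 3 ∣ m := by
  have h2 := h.trans (Nat.gcd_dvd_left _ _)
  rcases (Nat.dvd_prime Nat.prime_three).1 h2 with h3 | h3
  · exact absurd h3 h1
  · subst h3
    exact ⟨rfl, h.trans (Nat.gcd_dvd_right _ _)⟩

theorem row_e6 {F : Type} [iF : Field F] [iF' : Fintype F] (e : S ≃* ↥(Cfsg.Lie.chevE6.group F)) : ORow.{u} S :=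
  TRow.congr e (TRow.of_cyclic_dvd (k := 0) (S2105.result rfl) (by rw [pow_zero, one_mul]) fun _ hd h1 =>
    .e6 F iF iF' (eq_three hd h1).2 ⟨e⟩ (eq_three hd h1).1)

theorem row_e7 {F : Type} [Field F] [Fintype F] : TRow.{u} S ↥(Cfsg.Lie.chevE7.group F) :=
  TRow.of_two (k := 1) (S2106.result rfl) (Nat.gcd_dvd_left _ _)

theorem row_e8 {F : Type} [Field F] [Fintype F] : TRow.{u} S ↥(Cfsg.Lie.chevE8.group F) :=
  TRow.of_one S2107.result

theorem row_te6 {K : Type} [iF : Field K] [iF' : Fintype K] {q : ℕ} (hq : IsPrimePow q)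
    (hK : Fintype.card K = q ^ 2) (e : S ≃* ↥(Cfsg.Lie.twistedE6 K q)) : ORow.{u} S := by
  by_cases h2 : q = 2
  · subst h2
    exact TRow.congr e (TRow.of_mult_dvd (k := 2) (m := 3) (S2109.result (by rw [hK]; norm_num))
      (by simp [Nat.card_zmod]) (of_three (.te6 K iF iF' 2 hq hK (by norm_num) ⟨e⟩ rfl)))
  · exact TRow.congr e (TRow.of_cyclic_dvd (k := 0) (S2108.result hq hK h2) (by rw [pow_zero, one_mul])
      fun _ hd h1 => .te6 K iF iF' q hq hK (eq_three hd h1).2 ⟨e⟩ (eq_three hd h1).1)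

theorem row_sz {F : Type} [Field F] [Fintype F] {m : ℕ} (hm : 1 ≤ m) (hF : Fintype.card F = 2 ^ (2 * m + 1)) :
    TRow.{u} S ↥(Cfsg.Lie.Sz F (2 ^ (m + 1))) := by
  rcases Nat.lt_or_ge m 2 with h | h
  · obtain rfl : m = 1 := by omega
    have hA := S2112.result (F := F) (by rw [hF]; norm_num)
    have h4 : (2 : ℕ) ^ (1 + 1) = 4 := by norm_num
    exact TRow.of_mult_two (k := 2) (by rw [h4]; exact hA) (by simp [Nat.card_zmod])
  · exact TRow.of_one (S2111.result h hF)

theorem row_of_equiv_one {X : Type w} [Group X] (h : Nonempty (S ≃* X))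
    (hA : Cfsg.HasCyclicSchurMultiplier X 1) : ORow.{u} S := by
  obtain ⟨e⟩ := h
  exact TRow.congr e (TRow.of_one hA)

theorem row_tits (h : Lie.IsoTits S) : ORow.{u} S := by
  refine row_of_equiv_one (X := Lie.TitsGroup) ?_ ?_
  · exact h
  · exact S2115.result

/-- The exceptional groups of Lie type. -/
theorem row_exc (h : IsExceptionalLieType S) : ORow.{u} S := by
  rcases h with h | h | h | h | h | h | h | h | h | h | h
  · obtain ⟨F, _, _, h1, ⟨e⟩⟩ := h
    exact row_g2 h1 e
  · obtain ⟨F, _, _, ⟨e⟩⟩ := h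
    exact TRow.congr e row_f4
  · obtain ⟨F, _, _, ⟨e⟩⟩ := h
    exact row_e6 e
  · obtain ⟨F, _, _, ⟨e⟩⟩ := h
    exact TRow.congr e row_e7
  · obtain ⟨F, _, _, ⟨e⟩⟩ := h
    exact TRow.congr e row_e8
  · obtain ⟨K, _, _, q, hq, hK, ⟨e⟩⟩ := h
    exact row_te6 hq hK e
  · obtain ⟨K, _, _, q, hq, hK, ⟨e⟩⟩ := h
    exact TRow.congr e (TRow.of_one (S2110.result hq hK))
  · obtain ⟨F, _, _, m, hm, hF, ⟨e⟩⟩ := h
    exact TRow.congr e (row_sz hm hF)
  · obtain ⟨K, _, _, m, hm, hK, ⟨e⟩⟩ := h
    exact TRow.congr e (TRow.of_one (S2113.result hm hK))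
  · obtain ⟨K, _, _, m, hm, hK, ⟨e⟩⟩ := h
    exact TRow.congr e (TRow.of_one (S2114.result hm hK))
  · exact row_tits h

/-- **The alternating, classical and exceptional groups.** -/
theorem row_lie (h : IsAlternating S ∨ IsPSL S ∨ IsPSp S ∨ IsPSU S ∨ IsPOmegaOdd S ∨ IsPOmegaPlus S
      ∨ IsPOmegaMinus S ∨ IsExceptionalLieType S) : ORow.{u} S := by
  rcases h with h | h | h | h | h | h | h | h
  · obtain ⟨n, hn, ⟨e⟩⟩ := h
    exact row_alt n (by omega) e
  · obtain ⟨F, _, _, n, h1, h2, ⟨e⟩⟩ := h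
    exact row_psl n h1 h2 e
  · obtain ⟨F, _, _, m, h1, h2, ⟨e⟩⟩ := h
    exact TRow.congr e (row_psp m h1 h2)
  · obtain ⟨F, _, _, n, q, h1, h2, h3, ⟨e⟩⟩ := h
    exact row_psu n q h1 h2 h3 e
  · obtain ⟨F, _, _, m, h1, h2, ⟨e⟩⟩ := h
    exact row_omOdd m h1 h2 e
  · obtain ⟨F, _, _, m, h1, ⟨e⟩⟩ := h
    exact TRow.congr e (row_omPlus m h1)
  · obtain ⟨F, _, _, m, a, b, h1, h2, ⟨e⟩⟩ := h
    exact TRow.congr e (row_omMinus m h1 a b h2)
  · exact row_exc h

end Cfsg.Agent.H742.OddMult
end

-- part: H742/OddMultSpor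
section
/-!
# Stem extensions with kernels of odd order: the sporadic groups and the assembly (tasks 1083, S4985 and S4986)

* `odd_cases_known` : the case distinction for the known simple groups.
-/

set_option autoImplicit false

universe u v w

namespace Cfsg.Agent.H742.OddMult

open Cfsg

theorem row_of_equiv_two {S : Type v} [Group S] {X : Type w} [Group X] (h : Nonempty (S ≃* X))
    (hA : Cfsg.HasCyclicSchurMultiplier X 2) : ORow.{u} S := by
  obtain ⟨e⟩ := h
  exact TRow.congr e (TRow.of_two (k := 1) hA (by norm_num))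

theorem row_of_equiv_dvd {S : Type v} [Group S] {X : Type w} [Group X] {n k : ℕ} (h : Nonempty (S ≃* X))
    (hA : Cfsg.HasCyclicSchurMultiplier X n) (hn : n ∣ 2 ^ k * 3) (hr : OddCase S 3) : ORow.{u} S := by
  obtain ⟨e⟩ := h
  exact TRow.congr e (TRow.of_cyclic_dvd (k := k) hA hn (of_three hr))

variable {S : Type v} [Group S] [Finite S]

theorem row_spor_a (h : Spor.IsoM11 S ∨ Spor.IsoM12 S ∨ Spor.IsoM22 S ∨ Spor.IsoM23 S ∨ Spor.IsoM24 S
    ∨ Spor.IsoJ1 S ∨ Spor.IsoJ2 S ∨ Spor.IsoJ3 S ∨ Spor.IsoJ4 S) : ORow.{u} S := by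
  rcases h with h | h | h | h | h | h | h | h | h
  · exact row_of_equiv_one h S2034.result
  · exact row_of_equiv_two h S2035.result
  · exact row_of_equiv_dvd (k := 2) h S2036.result (by norm_num) (.m22 h rfl)
  · exact row_of_equiv_one h S2037.result
  · exact row_of_equiv_one h S2038.result
  · exact row_of_equiv_one h S2039.result
  · exact row_of_equiv_two h S2040.result
  · obtain ⟨F, i1, i2, ω, hF, hω, e⟩ := id h
    exact row_of_equiv_dvd (k := 0) e (S2041.result hF ω hω) (by norm_num) (.j3 h rfl)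
  · exact row_of_equiv_one h S2042.result

theorem row_spor_b (h : Spor.IsoCo1 S ∨ Spor.IsoCo2 S ∨ Spor.IsoCo3 S ∨ Spor.IsoMcL S ∨ Spor.IsoHS S ∨ Spor.IsoSuz S
    ∨ Spor.IsoHe S ∨ Spor.IsoRu S ∨ Spor.IsoON S ∨ Spor.IsoLy S) : ORow.{u} S := by
  rcases h with h | h | h | h | h | h | h | h | h | h
  · exact row_of_equiv_two h S2043.result
  · exact row_of_equiv_one h S2044.result
  · exact row_of_equiv_one h S2045.result
  · exact row_of_equiv_dvd (k := 0) h S2047.result (by norm_num) (.mcl h rfl)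
  · exact row_of_equiv_two h S2046.result
  · exact row_of_equiv_dvd (k := 1) h S2048.result (by norm_num) (.suz h rfl)
  · exact row_of_equiv_one h S2049.result
  · exact row_of_equiv_two h S2051.result
  · exact row_of_equiv_dvd (k := 0) h S2052.result (by norm_num) (.on h rfl)
  · exact row_of_equiv_one h S2050.result

theorem row_spor_c (h : Spor.IsoFi22 S ∨ Spor.IsoFi23 S ∨ Spor.IsoFi24' S
    ∨ Spor.IsoHN S ∨ Spor.IsoTh S ∨ Spor.IsoB S ∨ Spor.IsoM S) : ORow.{u} S := by
  rcases h with h | h | h | h | h | h | h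
  · exact row_of_equiv_dvd (k := 1) h S2053.result (by norm_num) (.fi22 h rfl)
  · exact row_of_equiv_one h S2054.result
  · exact row_of_equiv_dvd (k := 0) h S2055.result (by norm_num) (.fi24 h rfl)
  · exact row_of_equiv_one h S2056.result
  · exact row_of_equiv_one h S2057.result
  · exact row_of_equiv_two h S2058.result
  · exact row_of_equiv_one h S2059.result

/-- **The sporadic groups.** -/
theorem row_spor (h : IsSporadicGroup S) : ORow.{u} S := by
  rcases h with h | h | h | h | h | h | h | h | h | h | h | h | h | h | h | h | h | h | h | h | h | h | h | h | h | h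
  · exact row_spor_a (by simp [h])
  · exact row_spor_a (by simp [h])
  · exact row_spor_a (by simp [h])
  · exact row_spor_a (by simp [h])
  · exact row_spor_a (by simp [h])
  · exact row_spor_a (by simp [h])
  · exact row_spor_a (by simp [h])
  · exact row_spor_a (by simp [h])
  · exact row_spor_a (by simp [h])
  · exact row_spor_b (by simp [h])
  · exact row_spor_b (by simp [h])
  · exact row_spor_b (by simp [h])
  · exact row_spor_b (by simp [h])
  · exact row_spor_b (by simp [h])
  · exact row_spor_b (by simp [h])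
  · exact row_spor_b (by simp [h])
  · exact row_spor_b (by simp [h])
  · exact row_spor_b (by simp [h])
  · exact row_spor_b (by simp [h])
  · exact row_spor_c (by simp [h])
  · exact row_spor_c (by simp [h])
  · exact row_spor_c (by simp [h])
  · exact row_spor_c (by simp [h])
  · exact row_spor_c (by simp [h])
  · exact row_spor_c (by simp [h])
  · exact row_spor_c (by simp [h])

/-- **All known simple groups.** -/
theorem odd_cases_known (hna : ¬ IsMulCommutative S) (h : IsKnownSimple' S) : ORow.{u} S := by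
  rcases h with h | h | h | h | h | h | h | h | h | h
  · have : Fact (Nat.card S).Prime := ⟨h⟩
    have hc : IsCyclic S := isCyclic_of_prime_card rfl
    exact absurd (IsCyclic.isMulCommutative (α := S)) hna
  · exact row_lie (Or.inl h)
  · exact row_lie (by simp [h])
  · exact row_lie (by simp [h])
  · exact row_lie (by simp [h])
  · exact row_lie (by simp [h])
  · exact row_lie (by simp [h])
  · exact row_lie (by simp [h])
  · exact row_lie (by simp [h])
  · exact row_spor h

end Cfsg.Agent.H742.OddMult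
end
end

-- part: H692/Rel/Mab
section
prune_inst 0x290404145494002000018001620000004140001020020040114060440010ad320290221010c001c181010ae000004002811000070000000000084000000010120802842001340001524000980208f090c00100800000000000000000000041000010000000
set_option linter.all false
open scoped Cfsg.Agent.FastGrp

-- part: H692/Rel/Chief
section
/-!
# Chief factors below a solvable normal subgroup (helper692, for S4986)
-/

set_option autoImplicit false
set_option linter.style.haveILetI false

namespace Cfsg.Agent.H692.Rel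

open scoped commutatorElement
open Subgroup

/-- a chief factor below a solvable normal subgroup -/
theorem exists_chief {G : Type*} [Group G] [Finite G] {C K : Subgroup G} (hC : C.Normal)
    (hK : K.Normal) (hlt : C < K) (hs : Group.IsSolvable K) :
    ∃ (L : Subgroup G) (s : ℕ), L.Normal ∧ C < L ∧ L ≤ K ∧ s.Prime ∧ (∀ x ∈ L, x ^ s ∈ C) ∧
      (∀ x ∈ L, ∀ y ∈ L, ⁅x, y⁆ ∈ C) ∧
      (∀ N : Subgroup G, N.Normal → C ≤ N → N ≤ L → N = C ∨ N = L) := by
  classical
  obtain ⟨L, hL⟩ : ∃ L : Subgroup G, Minimal (fun L : Subgroup G => L.Normal ∧ C < L ∧ L ≤ K) L :=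
    (Set.toFinite {L : Subgroup G | L.Normal ∧ C < L ∧ L ≤ K}).exists_minimal ⟨K, hK, hlt, le_rfl⟩
  obtain ⟨hLn, hCL, hLK⟩ := hL.prop
  have hmin : ∀ N : Subgroup G, N.Normal → C ≤ N → N ≤ L → N = C ∨ N = L := by
    intro N hN h1 h2
    rcases h1.lt_or_eq with h | h
    · exact Or.inr (le_antisymm h2 (hL.le_of_le ⟨hN, h, h2.trans hLK⟩ h2))
    · exact Or.inl h.symm
  -- commutators
  have hcomm : ∀ x ∈ L, ∀ y ∈ L, ⁅x, y⁆ ∈ C := by
    have hN : (C ⊔ ⁅L, L⁆).Normal := inferInstance
    have hle : ⁅L, L⁆ ≤ L := Subgroup.commutator_le_left L L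
    rcases hmin _ hN le_sup_left (sup_le hCL.le hle) with h | h
    · intro x hx y hy
      rw [← h]
      exact mem_sup_right (Subgroup.commutator_mem_commutator hx hy)
    · exfalso
      haveI : Group.IsSolvable L := Group.isSolvable_of_isSolvable_injective
        (Subgroup.inclusion_injective hLK)
      let q : L →* L ⧸ (C.subgroupOf L) := QuotientGroup.mk' (C.subgroupOf L)
      have hq : Function.Surjective q := QuotientGroup.mk'_surjective _
      haveI : Group.IsSolvable (L ⧸ (C.subgroupOf L)) := Group.isSolvable_of_surjective hq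
      haveI : Nontrivial (L ⧸ (C.subgroupOf L)) := by
        obtain ⟨x, hxL, hxC⟩ := SetLike.exists_of_lt hCL
        refine ⟨⟨q ⟨x, hxL⟩, 1, fun h1 => hxC ?_⟩⟩
        have h2 : (⟨x, hxL⟩ : L) ∈ C.subgroupOf L := (QuotientGroup.eq_one_iff _).1 h1
        exact h2
      have h1 := Group.IsSolvable.commutator_lt_top_of_nontrivial (L ⧸ (C.subgroupOf L))
      refine h1.ne ?_
      rw [eq_top_iff]
      intro y _
      obtain ⟨⟨x, hx⟩, rfl⟩ := hq y
      have hx' : x ∈ C ⊔ ⁅L, L⁆ := by rw [h]; exact hx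
      obtain ⟨c, hc, d, hd, rfl⟩ := Subgroup.mem_sup_of_normal_left.1 hx'
      have hdL : d ∈ L := hle hd
      have hcL : c ∈ L := hCL.le hc
      have e : (⟨c * d, hx⟩ : L) = ⟨c, hcL⟩ * ⟨d, hdL⟩ := rfl
      rw [e, map_mul]
      have h2 : q ⟨c, hcL⟩ = 1 := (QuotientGroup.eq_one_iff _).2 hc
      rw [h2, one_mul]
      have h3 : (commutator L).map q ≤ commutator (L ⧸ (C.subgroupOf L)) := by
        rw [_root_.commutator_def, _root_.commutator_def, Subgroup.map_commutator]
        exact Subgroup.commutator_mono le_top le_top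
      apply h3
      refine ⟨⟨d, hdL⟩, ?_, rfl⟩
      have h4 : ⁅L, L⁆ ≤ (commutator L).map L.subtype := by
        rw [Subgroup.commutator_le]
        intro a ha b hb
        exact ⟨⁅⟨a, ha⟩, ⟨b, hb⟩⁆, Subgroup.commutator_mem_commutator (mem_top _) (mem_top _), rfl⟩
      obtain ⟨w, hw, hwd⟩ := h4 hd
      have : w = ⟨d, hdL⟩ := Subtype.ext hwd
      rwa [← this]
  -- exponent
  obtain ⟨x, hxL, hxC⟩ := SetLike.exists_of_lt hCL
  have hx1 : orderOf (x : G ⧸ C) ≠ 1 := fun h => hxC
    ((QuotientGroup.eq_one_iff x).1 (orderOf_eq_one_iff.1 h))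
  let s := (orderOf (x : G ⧸ C)).minFac
  have hsp : s.Prime := Nat.minFac_prime hx1
  obtain ⟨k, hk⟩ := Nat.minFac_dvd (orderOf (x : G ⧸ C))
  have hmkcomm : ∀ a ∈ L, ∀ b ∈ L, Commute (a : G ⧸ C) (b : G ⧸ C) := by
    intro a ha b hb
    have h1 : ((⁅a, b⁆ : G) : G ⧸ C) = 1 := (QuotientGroup.eq_one_iff _).2 (hcomm a ha b hb)
    have h2 : ((⁅a, b⁆ : G) : G ⧸ C) = ⁅(a : G ⧸ C), (b : G ⧸ C)⁆ := rfl
    rw [h2, commutatorElement_eq_one_iff_mul_comm] at h1
    exact h1
  let N : Subgroup G :=
    { carrier := {y | y ∈ L ∧ (y : G ⧸ C) ^ s = 1}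
      one_mem' := ⟨one_mem _, by rw [QuotientGroup.mk_one, one_pow]⟩
      mul_mem' := by
        rintro a b ⟨ha, ha'⟩ ⟨hb, hb'⟩
        refine ⟨mul_mem ha hb, ?_⟩
        rw [QuotientGroup.mk_mul, (hmkcomm a ha b hb).mul_pow, ha', hb', one_mul]
      inv_mem' := by
        rintro a ⟨ha, ha'⟩
        refine ⟨inv_mem ha, ?_⟩
        rw [QuotientGroup.mk_inv, inv_pow, ha', inv_one] }
  have hNn : N.Normal := by
    refine ⟨?_⟩
    rintro y ⟨hy, hy'⟩ g
    refine ⟨hLn.conj_mem y hy g, ?_⟩
    rw [QuotientGroup.mk_mul, QuotientGroup.mk_mul, QuotientGroup.mk_inv, conj_pow, hy', mul_one,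
      mul_inv_cancel]
  have hCN : C ≤ N := fun c hc => ⟨hCL.le hc, by
    rw [(QuotientGroup.eq_one_iff c).2 hc, one_pow]⟩
  have hNL : N ≤ L := fun y hy => hy.1
  refine ⟨L, s, hLn, hCL, hLK, hsp, ?_, hcomm, hmin⟩
  rcases hmin N hNn hCN hNL with h | h
  · exfalso
    have h1 : x ^ k ∈ N := by
      refine ⟨pow_mem hxL k, ?_⟩
      rw [QuotientGroup.mk_pow, ← pow_mul, mul_comm, ← hk, pow_orderOf_eq_one]
    rw [h] at h1
    have h2 : (x : G ⧸ C) ^ k = 1 := by
      rw [← QuotientGroup.mk_pow]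
      exact (QuotientGroup.eq_one_iff _).2 h1
    have h3 := orderOf_dvd_of_pow_eq_one h2
    have h4 : 0 < orderOf (x : G ⧸ C) := orderOf_pos _
    have h5 : 0 < k := by
      rcases Nat.eq_zero_or_pos k with h | h
      · rw [hk, h, mul_zero] at h4
        exact absurd h4 (lt_irrefl _)
      · exact h
    have h6 := Nat.le_of_dvd h5 h3
    have h7 : 2 ≤ (orderOf (x : G ⧸ C)).minFac := hsp.two_le
    rw [hk] at h6
    nlinarith
  · intro y hy
    rw [← h] at hy
    rw [← QuotientGroup.eq_one_iff, QuotientGroup.mk_pow]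
    exact hy.2

/-- A perfect solvable quotient is trivial: if `N` is solvable and normal in `G`, `K` is a maximal
normal subgroup with nonsolvable quotient, then `N ≤ K`. -/
theorem le_of_solvable {G : Type*} [Group G] [Finite G] {K N : Subgroup G} (hK : K.Normal)
    (hN : N.Normal) (hmax : ∀ T : Subgroup G, T.Normal → K ≤ T → T = K ∨ T = ⊤)
    (hns : ¬ Group.IsSolvable (G ⧸ K)) (hs : Group.IsSolvable N) : N ≤ K := by
  rcases hmax (K ⊔ N) inferInstance le_sup_left with h | h
  · rw [← h]
    exact le_sup_right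
  · exfalso
    apply hns
    let f : N →* G ⧸ K := (QuotientGroup.mk' K).comp N.subtype
    refine Group.isSolvable_of_surjective (f := f) ?_
    intro y
    obtain ⟨g, rfl⟩ := QuotientGroup.mk_surjective y
    have hg : g ∈ K ⊔ N := by rw [h]; trivial
    obtain ⟨k, hk, n, hn, rfl⟩ := Subgroup.mem_sup_of_normal_left.1 hg
    refine ⟨⟨n, hn⟩, ?_⟩
    show (n : G ⧸ K) = ((k * n : G) : G ⧸ K)
    rw [QuotientGroup.mk_mul, (QuotientGroup.eq_one_iff k).2 hk, one_mul]

end Cfsg.Agent.H692.Rel
end

-- part: H692/Rel/Step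
section
/-!
# Odd relative degrees: consequences of induction (helper692, for S4986)
-/

set_option autoImplicit false
set_option linter.style.haveILetI false
set_option linter.unusedSectionVars false

namespace Cfsg.Agent.H692.Rel

open Cfsg Cfsg.Agent.Characters.Core Cfsg.Agent.Characters.Clifford Cfsg.Agent.H672
open Cfsg.Agent.H586.GW
open Cfsg.Agent.H672.RM (over_lin_iff TSet)
open scoped ComplexConjugate commutatorElement

universe u

variable {G : Type u} [Group G] [Finite G] {Z : Subgroup G} {l : Z →* ℂˣ}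

theorem isSolvable_of_abelian {M : Subgroup G} (hM : ∀ a ∈ M, ∀ b ∈ M, a * b = b * a) :
    Group.IsSolvable M :=
  Group.isSolvable_of_comm fun a b => Subtype.ext (hM a a.2 b b.2)

/-- If `N ≤ H` is normal in `G` and `N`, `H / N` are solvable, then `H` is solvable. -/
theorem isSolvable_of_quot {H : Type*} [Group H] (N : Subgroup H) [N.Normal]
    (h1 : Group.IsSolvable N) (h2 : Group.IsSolvable (H ⧸ N)) : Group.IsSolvable H :=
  Group.isSolvable_of_ker_le_range N.subtype (QuotientGroup.mk' N)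
    (by rw [QuotientGroup.ker_mk', Subgroup.range_subtype])

theorem low (hZ : Z ≤ Subgroup.center G) (hmin : ∀ k < Z.index, TG.{u} k)
    (hrel : RelP 2 Z.subtype (lf l)) (M : Subgroup G) (hM : M.Normal) (hZM : Z ≤ M)
    (hMt : M ≠ ⊤) : Group.IsSolvable M := by
  haveI := center_normal Z hZ
  have h1 := hrel.normal Z (isIrr_lf l) M hZM
  have h2 := relP_equiv _ (Subgroup.subgroupOfEquivOfLe hZM) h1
  have hcen : ∀ z : Z.subgroupOf M, ∀ g : M, g * z * g⁻¹ = z := by
    intro z g
    apply Subtype.ext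
    have := Subgroup.mem_center_iff.1 (show ((z : M) : G) ∈ Subgroup.center G from hZ z.2) (g : G)
    show (g : G) * (z : M) * (g : G)⁻¹ = (z : M)
    rw [this, mul_inv_cancel_right]
  have h3 : Group.IsSolvable (M ⧸ Z.subgroupOf M) := by
    refine hmin (Z.subgroupOf M).index ?_ (Z.subgroupOf M) _ ?_ ?_ rfl h2
    · have h4 : Z.relIndex M * M.index = Z.index := Subgroup.relIndex_mul_index hZM
      have h5 : M.index ≠ 1 := fun h => hMt (Subgroup.index_eq_one.1 h)
      have h6 : M.index ≠ 0 := Subgroup.index_ne_zero_of_finite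
      have h7 : Z.relIndex M ≠ 0 := Subgroup.index_ne_zero_of_finite
      change Z.relIndex M < _
      rw [← h4]
      have h8 : 2 ≤ M.index := by omega
      nlinarith [Nat.pos_of_ne_zero h7]
    · exact isIrr_comp (Subgroup.subgroupOfEquivOfLe hZM).toMonoidHom
        (Subgroup.subgroupOfEquivOfLe hZM).surjective (isIrr_lf l)
    · rw [eq_top_iff]
      intro g _
      rw [mem_inertia_iff]
      intro n
      congr 1
      apply Subtype.ext
      exact hcen n g
  refine isSolvable_of_quot (Z.subgroupOf M) (Group.isSolvable_of_comm fun a b => ?_) h3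
  apply Subtype.ext
  apply Subtype.ext
  exact (Subgroup.mem_center_iff.1 (hZ b.2) (a : M).1)

/-- The inertia groups of the characters of larger normal subgroups. -/
theorem upT (hZ : Z ≤ Subgroup.center G) (hmin : ∀ k < Z.index, TG.{u} k)
    (hrel : RelP 2 Z.subtype (lf l)) (M : Subgroup G) [hM : M.Normal] (hZM : Z < M)
    {ψ : M → ℂ} (hψ : IsIrrCharacter M ψ) (hov : Over (Subgroup.inclusion hZM.le) ψ (lf l))
    (hMs : Group.IsSolvable M) :
    Odd (inertia M ψ).index ∧ Group.IsSolvable (inertia M ψ) ∧ RelP 2 M.subtype ψ := by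
  haveI := center_normal Z hZ
  have h1 := hrel.up Z (isIrr_lf l) (charDegree_lf l) M hZM.le hψ hov
  have hMT : M ≤ inertia M ψ := le_inertia (isIrr_isClassFunction hψ)
  have h2 := h1.inertia M hψ _ rfl hMT
  have h3 := relP_equiv _ (Subgroup.subgroupOfEquivOfLe hMT) h2
  have h4 : Group.IsSolvable (inertia M ψ ⧸ M.subgroupOf (inertia M ψ)) := by
    refine hmin (M.subgroupOf (inertia M ψ)).index ?_ (M.subgroupOf (inertia M ψ)) _ ?_ ?_ rfl h3
    · have h4 : M.relIndex (inertia M ψ) * (inertia M ψ).index = M.index :=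
        Subgroup.relIndex_mul_index hMT
      have h5 : Z.relIndex M * M.index = Z.index := Subgroup.relIndex_mul_index hZM.le
      have h6 : Z.relIndex M ≠ 1 := fun h => hZM.not_ge (Subgroup.relIndex_eq_one.1 h)
      have h7 : Z.relIndex M ≠ 0 := Subgroup.index_ne_zero_of_finite
      have h8 : (inertia M ψ).index ≠ 0 := Subgroup.index_ne_zero_of_finite
      have h9 : M.index ≠ 0 := Subgroup.index_ne_zero_of_finite
      change M.relIndex (inertia M ψ) < Z.index
      have h10 : M.relIndex (inertia M ψ) ≤ M.index := by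
        rw [← h4]
        exact Nat.le_mul_of_pos_right _ (Nat.pos_of_ne_zero h8)
      have h11 : 2 ≤ Z.relIndex M := by omega
      rw [← h5]
      nlinarith [Nat.pos_of_ne_zero h9]
    · exact isIrr_comp (Subgroup.subgroupOfEquivOfLe hMT).toMonoidHom
        (Subgroup.subgroupOfEquivOfLe hMT).surjective hψ
    · rw [eq_top_iff]
      intro g _
      rw [mem_inertia_iff]
      intro n
      have h5 := mem_inertia_iff.1 g.2 ⟨n, n.2⟩
      exact h5
  refine ⟨?_, ?_, h1⟩
  · have h5 := h1.not_dvd_index M hψ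
    exact Nat.odd_iff.2 (Nat.two_dvd_ne_zero.1 h5)
  · refine isSolvable_of_quot (M.subgroupOf (inertia M ψ)) ?_ h4
    haveI := hMs
    exact Group.isSolvable_of_isSolvable_injective
      (f := (Subgroup.subgroupOfEquivOfLe hMT).toMonoidHom)
      (Subgroup.subgroupOfEquivOfLe hMT).injective

end Cfsg.Agent.H692.Rel
end

-- part: H692/Rel/Mab
section
/-!
# Odd relative degrees: the chief factor over the centre (helper692, for S4986)
-/

set_option autoImplicit false
set_option linter.style.haveILetI false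
set_option linter.unusedSectionVars false

namespace Cfsg.Agent.H692.Rel

open Cfsg Cfsg.Agent.Characters.Core Cfsg.Agent.Characters.Clifford Cfsg.Agent.H672
open Cfsg.Agent.H586.GW
open Cfsg.Agent.H672.RM (over_lin_iff TSet)
open scoped ComplexConjugate commutatorElement

universe u

variable {G : Type u} [Group G] [Finite G] {Z : Subgroup G} {l : Z →* ℂˣ}

theorem isSolvable_of_top {M : Subgroup G} (hM : M = ⊤) (h : Group.IsSolvable M) :
    Group.IsSolvable G := by
  subst hM
  exact Group.isSolvable_of_surjective (f := (Subgroup.topEquiv (G := G)).toMonoidHom)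
    (Subgroup.topEquiv (G := G)).surjective

theorem chief_abelian (hZ : Z ≤ Subgroup.center G) (hinj : Function.Injective l)
    (hmin : ∀ k < Z.index, TG.{u} k) (hrel : RelP 2 Z.subtype (lf l)) (hns : ¬ Group.IsSolvable G)
    (M : Subgroup G) [hM : M.Normal] (hZM : Z < M) (hMs : Group.IsSolvable M)
    (hcomm : ∀ x ∈ M, ∀ y ∈ M, ⁅x, y⁆ ∈ Z)
    (hminM : ∀ N : Subgroup G, N.Normal → Z ≤ N → N ≤ M → N = Z ∨ N = M) :
    ∀ a ∈ M, ∀ b ∈ M, a * b = b * a := by
  classical
  haveI := center_normal Z hZ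
  let W : Subgroup G := M ⊓ Subgroup.centralizer (M : Set G)
  have hWn : W.Normal := inferInstance
  have hZW : Z ≤ W := by
    refine le_inf hZM.le ?_
    intro z hz
    rw [Subgroup.mem_centralizer_iff]
    intro m _
    exact Subgroup.mem_center_iff.1 (hZ hz) m
  rcases hminM W hWn hZW inf_le_left with h | h
  · exfalso
    obtain ⟨ψ, hψ, hov⟩ := exists_psi l M hZM.le
    obtain ⟨-, h2, -⟩ := upT hZ hmin hrel M hZM hψ hov hMs
    have hcen : ∀ n, (Subgroup.inclusion hZM.le n : M) ∈ Subgroup.center M := by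
      intro n
      rw [Subgroup.mem_center_iff]
      intro g
      exact Subtype.ext (Subgroup.mem_center_iff.1 (hZ n.2) (g : G))
    -- `ψ` vanishes off `Z`
    have hmul : ∀ (x : M) (z : Z), ψ (x * Subgroup.inclusion hZM.le z) = ψ x * l z := by
      intro x z
      have hov2 := (over_lin_iff _ hcen hψ l).1 hov
      obtain ⟨c, hc, -⟩ := Cfsg.Agent.CharactersDeep.Extraspecial.exists_central_hom hψ
      have h3 := hc 1 ⟨_, hcen z⟩
      have h4 := hc x ⟨_, hcen z⟩
      rw [one_mul] at h3
      have h5 := hov2 z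
      rw [h3] at h5
      rw [h4, mul_left_cancel₀ (isIrr_apply_one_ne_zero hψ) h5]
    have hvan : ∀ x : M, (x : G) ∉ Z → ψ x = 0 := by
      intro x hx
      have hxW : (x : G) ∉ W := by rwa [h]
      have h3 : ∃ y ∈ M, y * (x : G) ≠ (x : G) * y := by
        by_contra hcon
        push Not at hcon
        exact hxW ⟨x.2, Subgroup.mem_centralizer_iff.2 hcon⟩
      obtain ⟨y, hy, hxy⟩ := h3
      let z : G := ⁅(x : G)⁻¹, y⁆
      have hz : z ∈ Z := hcomm _ (inv_mem x.2) _ hy
      have hz1 : z ≠ 1 := by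
        intro h4
        apply hxy
        have h5 : (x : G)⁻¹ * y = y * (x : G)⁻¹ := commutatorElement_eq_one_iff_mul_comm.1 h4
        calc y * (x : G) = (x : G) * ((x : G)⁻¹ * y) * (x : G) := by group
          _ = (x : G) * (y * (x : G)⁻¹) * x := by rw [h5]
          _ = (x : G) * y := by group
      have h4 : ψ (⟨y, hy⟩ * x * ⟨y, hy⟩⁻¹) = ψ x :=
        isIrr_isClassFunction hψ x ⟨y, hy⟩
      have h5 : (⟨y, hy⟩ * x * ⟨y, hy⟩⁻¹ : M) = x * Subgroup.inclusion hZM.le ⟨z, hz⟩ := by
        apply Subtype.ext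
        show y * (x : G) * y⁻¹ = (x : G) * z
        simp only [z, commutatorElement_def]
        group
      rw [h5, hmul] at h4
      have h6 : l ⟨z, hz⟩ ≠ 1 := by
        intro h7
        apply hz1
        have := hinj (h7.trans (map_one l).symm)
        exact congrArg Subtype.val this
      by_contra h7
      apply h6
      apply Units.ext
      rw [Units.val_one]
      have h8 : ψ x * (l ⟨z, hz⟩ : ℂ) = ψ x * 1 := by rw [h4, mul_one]
      exact mul_left_cancel₀ h7 h8
    have hT : inertia M ψ = ⊤ := by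
      rw [eq_top_iff]
      intro g _
      rw [mem_inertia_iff]
      intro n
      by_cases hn : (n : G) ∈ Z
      · congr 1
        apply Subtype.ext
        show g * (n : G) * g⁻¹ = n
        rw [Subgroup.mem_center_iff.1 (hZ hn) g, mul_inv_cancel_right]
      · rw [hvan n hn]
        apply hvan
        intro h3
        apply hn
        have h4 := (inferInstance : Z.Normal).conj_mem _ h3 g⁻¹
        have h5 : g⁻¹ * (g * (n : G) * g⁻¹) * g⁻¹⁻¹ = n := by group
        rwa [← h5]
    exact hns (isSolvable_of_top hT h2)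
  · intro a ha b hb
    rw [← h] at hb
    exact Subgroup.mem_centralizer_iff.1 hb.2 a ha

/-- the extensions of `l` to `M` -/
def Ext (Z M : Subgroup G) (l : Z →* ℂˣ) : Set (M →* ℂˣ) :=
  {a | ∀ (z : G) (hz : z ∈ Z) (hm : z ∈ M), a ⟨z, hm⟩ = l ⟨z, hz⟩}

section ext
variable {M : Subgroup G} [hM : M.Normal]

theorem over_of_ext (hZ : Z ≤ Subgroup.center G) (hZM : Z ≤ M) {a : M →* ℂˣ}
    (ha : a ∈ Ext Z M l) : Over (Subgroup.inclusion hZM) (lf a) (lf l) := by
  have hcen : ∀ n, (Subgroup.inclusion hZM n : M) ∈ Subgroup.center M := by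
    intro n
    rw [Subgroup.mem_center_iff]
    intro g
    exact Subtype.ext (Subgroup.mem_center_iff.1 (hZ n.2) (g : G))
  rw [over_lin_iff _ hcen (isIrr_lf a)]
  intro n
  rw [lf_apply, lf_apply, map_one, Units.val_one, one_mul]
  exact congrArg Units.val (ha n n.2 (hZM n.2))

theorem exists_ext (hZ : Z ≤ Subgroup.center G) (hZM : Z ≤ M)
    (hab : ∀ a ∈ M, ∀ b ∈ M, a * b = b * a) : ∃ a : M →* ℂˣ, a ∈ Ext Z M l := by
  obtain ⟨ψ, hψ, hov⟩ := exists_psi l M hZM
  have hcen : ∀ n, (Subgroup.inclusion hZM n : M) ∈ Subgroup.center M := by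
    intro n
    rw [Subgroup.mem_center_iff]
    intro g
    exact Subtype.ext (Subgroup.mem_center_iff.1 (hZ n.2) (g : G))
  have hd : charDegree ψ = 1 := by
    apply charDegree_of_eq
    rw [Cfsg.Agent.Characters.CCBasic.irr_apply_one_of_comm
      (fun a b => Subtype.ext (hab a a.2 b b.2)) hψ, Nat.cast_one]
  obtain ⟨m, rfl⟩ := exists_hom_of_degree_one hψ hd
  refine ⟨m, fun z hz hm => ?_⟩
  have h1 := (over_lin_iff _ hcen hψ l).1 hov ⟨z, hz⟩
  rw [lf_apply, lf_apply, map_one, Units.val_one, one_mul] at h1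
  exact Units.ext h1

end ext

end Cfsg.Agent.H692.Rel
end
end

-- part: H726/Rel/Iface
section
set_option linter.all false
open scoped Cfsg.Agent.FastGrp

/-!
# Interface for S4985 and S4992 (helper726)

* `PiNum ω n`: all prime divisors of `n` lie in `ω`;
* `AllDeg ω Z l`: the irreducible characters over the linear character `l` of `Z` have `ω`-degree;
* `AbHall ω G`: `G` has an abelian Hall `ω`-subgroup;
* `IMT`: the Itô-Michler theorem (normal abelian Sylow subgroups) for all finite groups.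
-/

set_option autoImplicit false

namespace Cfsg.Agent.H726.Rel

open Cfsg

universe u

/-- All prime divisors of `n` lie in `ω`. -/
def PiNum (ω : Set ℕ) (n : ℕ) : Prop := ∀ q : ℕ, q.Prime → q ∣ n → q ∈ ω

/-- All irreducible characters over `l` have `ω`-degree. -/
def AllDeg (ω : Set ℕ) {G : Type*} [Group G] (Z : Subgroup G) (l : Z →* ℂˣ) : Prop :=
  ∀ χ : G → ℂ, IsIrrCharacter G χ → H692.Rel.Ov Z l χ → PiNum ω (charDegree χ)

/-- `G` has an abelian Hall `ω`-subgroup. -/
def AbHall (ω : Set ℕ) (G : Type*) [Group G] : Prop :=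
  ∃ H : Subgroup G, (∀ a ∈ H, ∀ b ∈ H, a * b = b * a) ∧ PiNum ω (Nat.card H) ∧ PiNum ωᶜ H.index

/-- The Itô-Michler theorem. -/
def IMT : Prop := ∀ (p : ℕ) [Fact p.Prime] (X : Type u) [Group X] [Finite X], H670.PSing.IM p X

theorem PiNum.of_dvd {ω : Set ℕ} {m n : ℕ} (h : PiNum ω n) (hd : m ∣ n) : PiNum ω m :=
  fun q hq hqm => h q hq (hqm.trans hd)

theorem PiNum.one {ω : Set ℕ} : PiNum ω 1 := fun _ hq h => absurd (Nat.dvd_one.1 h) hq.one_lt.ne'

theorem PiNum.mul {ω : Set ℕ} {m n : ℕ} (h : PiNum ω m) (h' : PiNum ω n) : PiNum ω (m * n) :=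
  fun q hq hd => (hq.dvd_mul.1 hd).elim (h q hq) (h' q hq)

theorem PiNum.pow {ω : Set ℕ} {m : ℕ} (h : PiNum ω m) (k : ℕ) : PiNum ω (m ^ k) :=
  fun q hq hd => h q hq (hq.dvd_of_dvd_pow hd)

theorem PiNum.of_mul_left {ω : Set ℕ} {m n : ℕ} (h : PiNum ω (m * n)) : PiNum ω m :=
  h.of_dvd (dvd_mul_right m n)

theorem PiNum.of_mul_right {ω : Set ℕ} {m n : ℕ} (h : PiNum ω (m * n)) : PiNum ω n :=
  h.of_dvd (dvd_mul_left n m)

theorem PiNum.coprime {ω : Set ℕ} {m n : ℕ} (hm : PiNum ω m) (hn : PiNum ωᶜ n) : m.Coprime n := by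
  by_contra h
  obtain ⟨q, hq, h1, h2⟩ := Nat.Prime.not_coprime_iff_dvd.1 h
  exact hn q hq h2 (hm q hq h1)

theorem PiNum.eq_one {ω : Set ℕ} {n : ℕ} (hm : PiNum ω n) (hn : PiNum ωᶜ n) : n = 1 := by
  have h := hm.coprime hn
  rwa [Nat.coprime_self] at h

theorem PiNum.not_dvd {ω : Set ℕ} {p n : ℕ} (hp : p.Prime) (hpω : p ∉ ω) (h : PiNum ω n) :
    ¬ p ∣ n := fun hd => hpω (h p hp hd)

end Cfsg.Agent.H726.Rel
end

-- part: H697/Rel/Over
section
set_option linter.all false
open scoped Cfsg.Agent.FastGrp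

/-!
# Characters over a faithful central character (helper697, for S4985, S4992)

* `sum_over` : column orthogonality for the irreducible characters over a linear character of a central subgroup;
* `card_conj_mul_le` : `#{z ∈ ker σ : y z ~ y} * |C(y)| ≤ |ker σ| * |C(σ y)|` for a central extension `σ`;
* `sum_norm_le`, `sum_degree` : the sums over the irreducible characters over a linear character of `ker σ`.
-/

set_option autoImplicit false
set_option linter.unusedSectionVars false

namespace Cfsg.Agent.H697.Rel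

open Cfsg Cfsg.Agent.Characters.Core Cfsg.Agent.Blocks.Basic Cfsg.Agent.H692.Rel
open scoped ComplexConjugate

section Over

variable {G : Type*} [Group G] [Fintype G] [Fintype (IrrCharacter G)]

open Classical in
/-- The irreducible characters over `l`. -/
noncomputable def irrOver (Z : Subgroup G) (l : Z →* ℂˣ) : Finset (IrrCharacter G) :=
  Finset.univ.filter fun χ => Ov Z l (χ : G → ℂ)

theorem mem_over {Z : Subgroup G} {l : Z →* ℂˣ} {χ : IrrCharacter G} :
    χ ∈ irrOver Z l ↔ Ov Z l (χ : G → ℂ) := by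
  classical
  unfold irrOver
  rw [Finset.mem_filter]
  exact ⟨fun h => h.2, fun h => ⟨Finset.mem_univ _, h⟩⟩

open Classical in
theorem sum_over {Z : Subgroup G} [Fintype Z] (hZ : Z ≤ Subgroup.center G) (l : Z →* ℂˣ) (g x : G) :
    (Nat.card Z : ℂ) * ∑ χ ∈ irrOver Z l, (χ : G → ℂ) g * conj ((χ : G → ℂ) x) =
      ∑ z : Z, ((l z : ℂ))⁻¹ * (if IsConj (g * z) x then
        (Nat.card (Subgroup.centralizer ({x} : Set G)) : ℂ) else 0) := by
  have e1 : ∀ z : Z, ((l z : ℂ))⁻¹ * (if IsConj (g * z) x then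
      (Nat.card (Subgroup.centralizer ({x} : Set G)) : ℂ) else 0) =
      ∑ χ : IrrCharacter G, (((l z : ℂ))⁻¹ * (χ : G → ℂ) (g * z)) * conj ((χ : G → ℂ) x) := by
    intro z
    rw [← Cfsg.Agent.S0145.sum_irr_mul_conj (G := G) (g * z) x, Finset.mul_sum]
    refine Finset.sum_congr rfl fun χ _ => ?_
    rw [mul_assoc]
  rw [Finset.sum_congr rfl fun z _ => e1 z, Finset.sum_comm, Finset.mul_sum]
  unfold irrOver
  rw [Finset.sum_filter]
  refine Finset.sum_congr rfl fun χ _ => ?_
  rw [← Finset.sum_mul, sum_mu hZ χ.2 g]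
  split_ifs
  · ring
  · ring

theorem sum_over_self {Z : Subgroup G} [Fintype Z] (hZ : Z ≤ Subgroup.center G) (l : Z →* ℂˣ) (x : G)
    (hgood : ∀ z ∈ Z, IsConj (x * z) x → z = 1) :
    (Nat.card Z : ℂ) * ∑ χ ∈ irrOver Z l, (χ : G → ℂ) x * conj ((χ : G → ℂ) x) =
      (Nat.card (Subgroup.centralizer ({x} : Set G)) : ℂ) := by
  classical
  rw [sum_over hZ l x x, Finset.sum_eq_single (1 : Z)]
  · rw [Subgroup.coe_one, mul_one, if_pos (IsConj.refl x), map_one, Units.val_one, inv_one, one_mul]
  · intro z _ hz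
    rw [if_neg, mul_zero]
    exact fun h2 => hz (Subtype.ext (hgood z z.2 h2))
  · intro h3
    exact absurd (Finset.mem_univ _) h3

end Over

section Ext

variable {C T : Type*} [Group C] [Group T] {σ : C →* T}

/-- `#{z ∈ ker σ : y z ~ y} * |C(y)| ≤ |ker σ| * |C(σ y)|`. -/
theorem card_conj_mul_le [Finite C] [Finite T] (hs : Function.Surjective σ) (y : C) :
    Nat.card {z : σ.ker // IsConj (y * z) y} * Nat.card (Subgroup.centralizer ({y} : Set C)) ≤
      Nat.card σ.ker * Nat.card (Subgroup.centralizer ({σ y} : Set T)) := by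
  have h0 : ∀ z : {z : σ.ker // IsConj (y * z) y}, ∃ g : C, g * y * g⁻¹ = y * (z : σ.ker) := by
    intro z
    exact isConj_iff.1 z.2.symm
  choose g hg using h0
  -- the preimage of the centralizer
  have hcard : Nat.card ↥((Subgroup.centralizer ({σ y} : Set T)).comap σ) =
      Nat.card σ.ker * Nat.card (Subgroup.centralizer ({σ y} : Set T)) := by
    have h1 := ((Subgroup.centralizer ({σ y} : Set T)).comap σ).card_mul_index
    have h2 := (Subgroup.centralizer ({σ y} : Set T)).card_mul_index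
    rw [Subgroup.index_comap_of_surjective _ hs] at h1
    have h3 : Nat.card C = Nat.card T * Nat.card σ.ker := by
      have h5 := Subgroup.card_eq_card_quotient_mul_card_subgroup σ.ker
      rw [h5, Nat.card_congr (QuotientGroup.quotientKerEquivOfSurjective σ hs).toEquiv]
    have h4 : 0 < (Subgroup.centralizer ({σ y} : Set T)).index :=
      Nat.pos_of_ne_zero Subgroup.index_ne_zero_of_finite
    apply Nat.eq_of_mul_eq_mul_right h4
    rw [h1, h3, ← h2]
    ring
  rw [← hcard, ← Nat.card_prod]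
  refine Nat.card_le_card_of_injective
    (fun p => (⟨g p.1 * p.2, ?_⟩ : ↥((Subgroup.centralizer ({σ y} : Set T)).comap σ))) ?_
  · rw [Subgroup.mem_comap, Subgroup.mem_centralizer_singleton_iff]
    have h1 := (Subgroup.mem_centralizer_singleton_iff.1 p.2.2)
    have h2 := hg p.1
    have h3 : g p.1 * (p.2 : C) * y = y * ((p.1 : σ.ker) : C) * (g p.1 * (p.2 : C)) := by
      calc g p.1 * (p.2 : C) * y = g p.1 * ((p.2 : C) * y) := by group
        _ = g p.1 * (y * (p.2 : C)) := by rw [h1]
        _ = (g p.1 * y * (g p.1)⁻¹) * (g p.1 * (p.2 : C)) := by group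
        _ = _ := by rw [h2]
    rw [← map_mul, h3, map_mul, map_mul, ((p.1 : σ.ker).2 : σ ((p.1 : σ.ker) : C) = 1), mul_one]
  · rintro ⟨z, c⟩ ⟨z', c'⟩ h
    have h1 : g z * (c : C) = g z' * (c' : C) := congrArg Subtype.val h
    have hc := (Subgroup.mem_centralizer_singleton_iff.1 c.2)
    have hc' := (Subgroup.mem_centralizer_singleton_iff.1 c'.2)
    have h2 : y * ((z : σ.ker) : C) = y * ((z' : σ.ker) : C) := by
      rw [← hg z, ← hg z']
      calc g z * y * (g z)⁻¹ = g z * (y * (c : C)) * (c : C)⁻¹ * (g z)⁻¹ := by group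
        _ = g z * ((c : C) * y) * (c : C)⁻¹ * (g z)⁻¹ := by rw [hc]
        _ = (g z * (c : C)) * y * (g z * (c : C))⁻¹ := by group
        _ = (g z' * (c' : C)) * y * (g z' * (c' : C))⁻¹ := by rw [h1]
        _ = g z' * ((c' : C) * y) * (c' : C)⁻¹ * (g z')⁻¹ := by group
        _ = g z' * (y * (c' : C)) * (c' : C)⁻¹ * (g z')⁻¹ := by rw [hc']
        _ = _ := by group
    have h3 : z = z' := by
      apply Subtype.ext
      apply Subtype.ext
      exact mul_left_cancel h2
    subst h3
    have h4 : (c : C) = c' := mul_left_cancel h1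
    rw [Subtype.ext h4]

variable [Fintype C] [Fintype (IrrCharacter C)]

/-- The sum of the `|χ(y)|²` over `Irr(C | l)` is at most `|C_T(σ y)|`. -/
theorem sum_norm_le [Finite T] (hs : Function.Surjective σ) (hc : σ.ker ≤ Subgroup.center C)
    (l : σ.ker →* ℂˣ) (y : C) :
    ∑ χ ∈ irrOver σ.ker l, ‖(χ : C → ℂ) y‖ ^ 2 ≤
      (Nat.card (Subgroup.centralizer ({σ y} : Set T)) : ℝ) := by
  classical
  have := Fintype.ofFinite σ.ker
  have h1 := sum_over hc l y y
  have h2 : ((Nat.card σ.ker : ℝ) * ∑ χ ∈ irrOver σ.ker l, ‖(χ : C → ℂ) y‖ ^ 2) =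
      ‖(Nat.card σ.ker : ℂ) * ∑ χ ∈ irrOver σ.ker l, (χ : C → ℂ) y * conj ((χ : C → ℂ) y)‖ := by
    have h3 : ∑ χ ∈ irrOver σ.ker l, (χ : C → ℂ) y * conj ((χ : C → ℂ) y) =
        ((∑ χ ∈ irrOver σ.ker l, ‖(χ : C → ℂ) y‖ ^ 2 : ℝ) : ℂ) := by
      rw [Complex.ofReal_sum]
      refine Finset.sum_congr rfl fun χ _ => ?_
      rw [Complex.mul_conj, Complex.normSq_eq_norm_sq]
    rw [h3, norm_mul, Complex.norm_natCast, Complex.norm_real, Real.norm_of_nonneg]
    exact Finset.sum_nonneg fun χ _ => by positivity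
  have h4 : ((Nat.card σ.ker : ℝ) * ∑ χ ∈ irrOver σ.ker l, ‖(χ : C → ℂ) y‖ ^ 2) ≤
      Nat.card {z : σ.ker // IsConj (y * z) y} * Nat.card (Subgroup.centralizer ({y} : Set C)) := by
    rw [h2, h1]
    refine (norm_sum_le _ _).trans ?_
    have h5 : ∀ z : σ.ker, ‖((l z : ℂ))⁻¹ * (if IsConj (y * z) y then
        (Nat.card (Subgroup.centralizer ({y} : Set C)) : ℂ) else 0)‖ =
        if IsConj (y * z) y then (Nat.card (Subgroup.centralizer ({y} : Set C)) : ℝ) else 0 := by
      intro z
      rw [norm_mul, norm_inv]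
      have h6 : ‖(l z : ℂ)‖ = 1 := by
        have h7 : (l z : ℂ) ^ Nat.card σ.ker = 1 := by
          rw [← Units.val_pow_eq_pow_val, ← map_pow, pow_card_eq_one', map_one, Units.val_one]
        exact Complex.norm_eq_one_of_pow_eq_one h7 Nat.card_pos.ne'
      rw [h6, inv_one, one_mul]
      split_ifs
      · exact Complex.norm_natCast _
      · exact norm_zero
    have h8 : Nat.card {z : σ.ker // IsConj (y * z) y} =
        (Finset.univ.filter fun z : σ.ker => IsConj (y * z) y).card := by
      rw [Nat.card_eq_fintype_card, Fintype.card_subtype]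
    rw [Finset.sum_congr rfl fun z _ => h5 z, ← Finset.sum_filter, Finset.sum_const, nsmul_eq_mul,
      h8]
  have h5 : (Nat.card {z : σ.ker // IsConj (y * z) y} : ℝ) *
      Nat.card (Subgroup.centralizer ({y} : Set C)) ≤
      Nat.card σ.ker * Nat.card (Subgroup.centralizer ({σ y} : Set T)) := by
    exact_mod_cast card_conj_mul_le hs y
  have h6 : (0 : ℝ) < Nat.card σ.ker := by exact_mod_cast Nat.card_pos
  exact le_of_mul_le_mul_left (h4.trans h5) h6

/-- The sum of the squares of the degrees over `Irr(C | l)` is `|T|`. -/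
theorem sum_degree [Finite T] (hs : Function.Surjective σ) (hc : σ.ker ≤ Subgroup.center C)
    (l : σ.ker →* ℂˣ) : ∑ χ ∈ irrOver σ.ker l, charDegree (χ : C → ℂ) ^ 2 = Nat.card T := by
  classical
  have := Fintype.ofFinite σ.ker
  have h1 := sum_over_self hc l 1 (fun z _ hz => by
    rw [one_mul] at hz
    exact isConj_one_right.1 (hz.symm))
  have h2 : Subgroup.centralizer ({(1 : C)} : Set C) = ⊤ := by
    rw [eq_top_iff]
    intro g _
    rw [Subgroup.mem_centralizer_singleton_iff, mul_one, one_mul]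
  rw [h2, Subgroup.card_top] at h1
  have h3 : Nat.card C = Nat.card T * Nat.card σ.ker := by
    have h5 := Subgroup.card_eq_card_quotient_mul_card_subgroup σ.ker
    rw [h5, Nat.card_congr (QuotientGroup.quotientKerEquivOfSurjective σ hs).toEquiv]
  have h4 : (Nat.card σ.ker : ℂ) * ((∑ χ ∈ irrOver σ.ker l, charDegree (χ : C → ℂ) ^ 2 : ℕ) : ℂ) =
      (Nat.card σ.ker : ℂ) * (Nat.card T : ℂ) := by
    rw [h3] at h1
    push_cast at h1 ⊢
    rw [mul_comm (Nat.card σ.ker : ℂ) (Nat.card T : ℂ), ← h1]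
    congr 1
    refine Finset.sum_congr rfl fun χ _ => ?_
    rw [irr_one_eq_charDegree χ.2, Complex.conj_natCast, pow_two]
  have h5 : (Nat.card σ.ker : ℂ) ≠ 0 := by exact_mod_cast Nat.card_pos.ne'
  exact_mod_cast mul_left_cancel₀ h5 h4

end Ext

end Cfsg.Agent.H697.Rel
end
end
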